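import Groth.Agent.H56.NearGeneric.Use
import Mathlib.RingTheory.Localization.Away.Basic

/-!
# Traces of closed and open subsets on the fibres near the generic point
-/

set_option autoImplicit false
set_option linter.style.haveILetI false
noncomputable section

universe u

open CategoryTheory CategoryTheory.Limits AlgebraicGeometry TopologicalSpace TensorProduct

namespace Groth.Agent.H56.NearGeneric

variable {A B : Type u} [CommRing A] [CommRing B] [Algebra A B]

theorem zeroLocus_nonempty_iff_nontrivial (J : Ideal B) (L : Type u) [Field L] [Algebra A L] :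
    (PrimeSpectrum.zeroLocus ((fun b : B => (1 : L) ⊗ₜ[A] b) '' (J : Set B))).Nonempty ↔
      Nontrivial (L ⊗[A] (B ⧸ J)) := by
  let Φ := Algebra.TensorProduct.map (AlgHom.id A L) (Ideal.Quotient.mkₐ A J)
  have hker : RingHom.ker Φ = J.map (Algebra.TensorProduct.includeRight : B →ₐ[A] L ⊗[A] B) := by
    rw [Algebra.TensorProduct.lTensor_ker _ (Ideal.Quotient.mkₐ_surjective A J)]
    congr 1
    exact Ideal.Quotient.mkₐ_ker A J
  rw [← PrimeSpectrum.zeroLocus_span, Set.nonempty_iff_ne_empty,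
    ne_eq, PrimeSpectrum.zeroLocus_empty_iff_eq_top]
  have e : Ideal.span ((fun b : B => (1 : L) ⊗ₜ[A] b) '' (J : Set B)) = RingHom.ker Φ := by
    rw [hker]; rfl
  rw [e]
  refine ⟨fun h => ⟨⟨1, 0, fun h1 => h ((Ideal.eq_top_iff_one _).2 ?_)⟩⟩, fun h h1 => ?_⟩
  · rw [RingHom.mem_ker, map_one, h1]
  · have := (Ideal.eq_top_iff_one _).1 h1
    rw [RingHom.mem_ker, map_one] at this
    exact one_ne_zero this

theorem nonempty_basicOpen_iff_nontrivial (g : B) (L : Type u) [Field L] [Algebra A L] :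
    (PrimeSpectrum.basicOpen ((1 : L) ⊗ₜ[A] g) : Set (PrimeSpectrum (L ⊗[A] B))).Nonempty ↔
      Nontrivial (L ⊗[A] Localization.Away g) := by
  constructor
  · rintro ⟨P, hP⟩
    let π : L ⊗[A] B →ₐ[A] (L ⊗[A] B) ⧸ P.asIdeal := Ideal.Quotient.mkₐ A P.asIdeal
    let F := FractionRing ((L ⊗[A] B) ⧸ P.asIdeal)
    let q : L ⊗[A] B →ₐ[A] F := (IsScalarTower.toAlgHom A _ F).comp π
    have hg : IsUnit (q ((1 : L) ⊗ₜ g)) := by
      refine isUnit_iff_ne_zero.2 fun h => hP ?_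
      have h' : π ((1 : L) ⊗ₜ g) = 0 :=
        IsFractionRing.injective ((L ⊗[A] B) ⧸ P.asIdeal) F (h.trans (map_zero _).symm)
      exact Ideal.Quotient.eq_zero_iff_mem.1 h'
    let qg : Localization.Away g →ₐ[A] F := IsLocalization.liftAlgHom (M := Submonoid.powers g)
      (f := q.comp Algebra.TensorProduct.includeRight) fun y => by
        obtain ⟨n, hn⟩ := y.2
        rw [← hn, map_pow]
        exact hg.pow n
    let h : L ⊗[A] Localization.Away g →ₐ[A] F :=
      Algebra.TensorProduct.lift (q.comp Algebra.TensorProduct.includeLeft) qg fun _ _ => .all _ _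
    exact h.toRingHom.domain_nontrivial
  · intro h
    obtain ⟨m, hm⟩ := Ideal.exists_maximal (L ⊗[A] Localization.Away g)
    let ρ := Algebra.TensorProduct.map (AlgHom.id A L) (IsScalarTower.toAlgHom A B (Localization.Away g))
    refine ⟨⟨m.comap ρ, inferInstance⟩, fun hg => hm.ne_top ?_⟩
    have hu : IsUnit (ρ ((1 : L) ⊗ₜ g)) :=
      (IsLocalization.Away.algebraMap_isUnit (S := Localization.Away g) g).map
        (Algebra.TensorProduct.includeRight : _ →ₐ[A] L ⊗[A] Localization.Away g)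
    exact Ideal.eq_top_of_isUnit_mem _ hg hu

variable {X Y : Scheme.{u}} {f : X ⟶ Y}

set_option backward.isDefEq.respectTransparency false in
theorem exists_fibre_disjoint [IrreducibleSpace Y] [LocallyOfFiniteType f] [QuasiCompact f]
    (T : Set X) (hT : IsClosed T) (η : Y) (hη : IsGenericPoint η Set.univ)
    (h : (f.fiberι η) ⁻¹' T = ∅) :
    ∃ V : Y.Opens, (V : Set Y).Nonempty ∧ ∀ y ∈ V, (f.fiberι y) ⁻¹' T = ∅ := by
  obtain ⟨M⟩ := exists_model f
  obtain ⟨ψη, hinj, hψη⟩ := M.generic η hη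
  choose J hJ using fun i => M.exists_zeroLocus hT i
  letI := ψη.hom.toAlgebra
  let K := Y.residueField η
  have hz : ∀ i, ∀ x : M.B i ⧸ J i, (1 : K) ⊗ₜ[M.A] x = 0 := by
    intro i x
    have hne : ¬ (PrimeSpectrum.zeroLocus
        ((fun b : M.B i => (1 : K) ⊗ₜ[M.A] b) '' (J i : Set (M.B i)))).Nonempty := by
      rintro ⟨P, hP⟩
      have := (M.chart_toX ψη hψη i T _ (hJ i)).superset hP
      exact (Set.eq_empty_iff_forall_notMem.1 h) (M.chart ψη hψη i P) this
    rw [zeroLocus_nonempty_iff_nontrivial, not_nontrivial_iff_subsingleton] at hne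
    exact Subsingleton.elim _ _
  obtain ⟨V, hV, hP⟩ := M.exists_forall_chart
    (fun i L _ _ => ∀ x : M.B i ⧸ J i, (1 : K) ⊗ₜ[M.A] x = 0 → (1 : L) ⊗ₜ[M.A] x = 0)
    fun i => exists_killed (B := M.B i) K (M.B i ⧸ J i) hinj
  refine ⟨V, hV, fun y hy => Set.eq_empty_of_forall_notMem fun x hx => ?_⟩
  obtain ⟨ψ, hψ, hk⟩ := hP y hy
  let _ := ψ.hom.toAlgebra
  obtain ⟨hopen, hcov⟩ := M.chart_spec ψ hψ
  obtain ⟨i, p, rfl⟩ := hcov x
  have hne : (PrimeSpectrum.zeroLocus
      ((fun b : M.B i => (1 : Y.residueField y) ⊗ₜ[M.A] b) '' (J i : Set (M.B i)))).Nonempty :=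
    ⟨p, (M.chart_toX ψ hψ i T _ (hJ i)).subset hx⟩
  rw [zeroLocus_nonempty_iff_nontrivial] at hne
  refine one_ne_zero (α := Y.residueField y ⊗[M.A] (M.B i ⧸ J i)) ?_
  rw [Algebra.TensorProduct.one_def]
  exact hk i 1 (hz i 1)

set_option backward.isDefEq.respectTransparency false in
theorem exists_fibre_meets [IrreducibleSpace Y] [LocallyOfFiniteType f] [QuasiCompact f]
    (T : Set X) (hT : IsClosed T) (η : Y) (hη : IsGenericPoint η Set.univ)
    (h : ((f.fiberι η) ⁻¹' T).Nonempty) :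
    ∃ V : Y.Opens, (V : Set Y).Nonempty ∧ ∀ y ∈ V, ((f.fiberι y) ⁻¹' T).Nonempty := by
  obtain ⟨M⟩ := exists_model f
  obtain ⟨ψη, hinj, hψη⟩ := M.generic η hη
  choose J hJ using fun i => M.exists_zeroLocus hT i
  letI := ψη.hom.toAlgebra
  let K := Y.residueField η
  obtain ⟨x, hx⟩ := h
  obtain ⟨hopen, hcov⟩ := M.chart_spec ψη hψη
  obtain ⟨i, p, rfl⟩ := hcov x
  have : Nontrivial (K ⊗[M.A] (M.B i ⧸ J i)) :=
    (zeroLocus_nonempty_iff_nontrivial (J i) K).1 ⟨p, (M.chart_toX ψη hψη i T _ (hJ i)).subset hx⟩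
  obtain ⟨a, ha, hL⟩ := exists_nontrivial (B := M.B i) K (M.B i ⧸ J i) hinj
  obtain ⟨V, hV, hψ⟩ := M.near a ha
  refine ⟨V, hV, fun y hy => ?_⟩
  obtain ⟨ψ, hψa, hψe⟩ := hψ y hy
  letI := ψ.hom.toAlgebra
  obtain ⟨q, hq⟩ := (zeroLocus_nonempty_iff_nontrivial (J i) (Y.residueField y)).2
    (hL (Y.residueField y) hψa)
  exact ⟨M.chart ψ hψe i q, (M.chart_toX ψ hψe i T _ (hJ i)).superset hq⟩

set_option backward.isDefEq.respectTransparency false in
theorem exists_fibre_meets_open [IrreducibleSpace Y] [LocallyOfFiniteType f] [QuasiCompact f]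
    (U : Set X) (hU : IsOpen U) (η : Y) (hη : IsGenericPoint η Set.univ)
    (h : ((f.fiberι η) ⁻¹' U).Nonempty) :
    ∃ V : Y.Opens, (V : Set Y).Nonempty ∧ ∀ y ∈ V, ((f.fiberι y) ⁻¹' U).Nonempty := by
  obtain ⟨M⟩ := exists_model f
  obtain ⟨ψη, hinj, hψη⟩ := M.generic η hη
  choose J hJ using fun i => M.exists_zeroLocus hU.isClosed_compl i
  letI := ψη.hom.toAlgebra
  let K := Y.residueField η
  obtain ⟨x, hx⟩ := h
  obtain ⟨hopen, hcov⟩ := M.chart_spec ψη hψη
  obtain ⟨i, p, rfl⟩ := hcov x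
  have hp : p ∉ PrimeSpectrum.zeroLocus ((fun b : M.B i => (1 : K) ⊗ₜ[M.A] b) '' (J i : Set (M.B i))) :=
    fun hp => ((M.chart_toX ψη hψη i Uᶜ _ (hJ i)).superset hp) hx
  obtain ⟨_, ⟨g, hg, rfl⟩, hgp⟩ := Set.not_subset.1 hp
  have : Nontrivial (K ⊗[M.A] Localization.Away g) :=
    (nonempty_basicOpen_iff_nontrivial g K).1 ⟨p, hgp⟩
  have : Algebra.FiniteType M.A (Localization.Away g) :=
    Algebra.FiniteType.trans (S := M.B i) inferInstance
      (IsLocalization.finiteType_of_monoid_fg (Submonoid.powers g) _)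
  obtain ⟨a, ha, hL⟩ :=
    exists_nontrivial (B := Localization.Away g) K (Localization.Away g) hinj
  obtain ⟨V, hV, hψ⟩ := M.near a ha
  refine ⟨V, hV, fun y hy => ?_⟩
  obtain ⟨ψ, hψa, hψe⟩ := hψ y hy
  letI := ψ.hom.toAlgebra
  obtain ⟨q, hq⟩ := (nonempty_basicOpen_iff_nontrivial g (Y.residueField y)).2
    (hL (Y.residueField y) hψa)
  refine ⟨M.chart ψ hψe i q, ?_⟩
  by_contra hc
  exact hq ((M.chart_toX ψ hψe i Uᶜ _ (hJ i)).subset hc ⟨g, hg, rfl⟩)

end Groth.Agent.H56.NearGeneric
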