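import Groth.Agent.H56.NearGeneric.Model
import Mathlib.AlgebraicGeometry.Morphisms.SchemeTheoreticallyDominant
import Mathlib.RingTheory.Finiteness.Defs
import Mathlib.AlgebraicGeometry.Noetherian

/-!
# Fibres near the generic point: subsets and scheme theoretic density
-/

set_option autoImplicit false
set_option linter.style.haveILetI false
noncomputable section

universe u

open CategoryTheory CategoryTheory.Limits AlgebraicGeometry TopologicalSpace TensorProduct

namespace Groth.Agent.H56.NearGeneric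

variable {X Y : Scheme.{u}} {f : X ⟶ Y} (M : Model f)

/-- `B i` as a chart of `X`. -/
def Model.toX (i : Fin M.n) : Spec (CommRingCat.of (M.B i)) ⟶ X := M.e i ≫ pullback.fst f M.u

/-- A property of all charts of all fibres near the generic point. -/
theorem Model.exists_forall_chart [IrreducibleSpace Y]
    (P : ∀ (i : Fin M.n) (L : Type u) [Field L] [Algebra M.A L], Prop)
    (h : ∀ i, ∃ a : M.A, a ≠ 0 ∧ ∀ (L : Type u) [Field L] [Algebra M.A L],
      algebraMap M.A L a ≠ 0 → P i L) :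
    ∃ V : Y.Opens, (V : Set Y).Nonempty ∧ ∀ y ∈ V, ∃ ψ : M.A ⟶ Y.residueField y,
      Spec.map ψ ≫ M.u = Y.fromSpecResidueField y ∧
      ∀ i, letI := ψ.hom.toAlgebra; P i (Y.residueField y) := by
  classical
  choose a ha hP using h
  obtain ⟨V, hV, hψ⟩ := M.near (∏ i, a i) (Finset.prod_ne_zero_iff.2 fun i _ => ha i)
  refine ⟨V, hV, fun y hy => ?_⟩
  obtain ⟨ψ, hψa, hψe⟩ := hψ y hy
  refine ⟨ψ, hψe, fun i => ?_⟩
  letI := ψ.hom.toAlgebra
  refine hP i (Y.residueField y) fun h0 => hψa ?_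
  rw [map_prod]
  exact Finset.prod_eq_zero (Finset.mem_univ i) h0

theorem interior_preimage_eq_empty_iff {F : Type*} [TopologicalSpace F] {ι : Type*} {W : ι → Type*}
    [∀ i, TopologicalSpace (W i)] (c : ∀ i, W i → F) (hc : ∀ i, Topology.IsOpenEmbedding (c i))
    (hcov : ∀ x, ∃ i, x ∈ Set.range (c i)) (s : Set F) :
    interior s = ∅ ↔ ∀ i, interior (c i ⁻¹' s) = ∅ := by
  constructor
  · intro h i
    rw [← (hc i).isOpenMap.preimage_interior_eq_interior_preimage (hc i).continuous, h,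
      Set.preimage_empty]
  · intro h
    refine Set.eq_empty_of_forall_notMem fun x hx => ?_
    obtain ⟨i, w, rfl⟩ := hcov x
    have : w ∈ interior (c i ⁻¹' s) := by
      rw [← (hc i).isOpenMap.preimage_interior_eq_interior_preimage (hc i).continuous]
      exact hx
    rw [h i] at this
    exact this

theorem mul_reg_of_forall_notMem_minimalPrimes {C : Type u} [CommRing C] {g : C}
    (h : ∀ Q ∈ minimalPrimes C, g ∉ Q) : ∀ z : C, IsNilpotent (g * z) → IsNilpotent z := by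
  intro z hz
  rw [nilpotent_iff_mem_prime]
  intro P hP
  obtain ⟨Q, hQ, hQP⟩ := Ideal.exists_minimalPrimes_le (I := (⊥ : Ideal C)) (J := P) bot_le
  exact hQP ((hQ.1.1.mem_or_mem (nilpotent_iff_mem_prime.1 hz Q hQ.1.1)).resolve_left (h Q hQ))

theorem notMem_minimalPrimes_of_mul_reg {C : Type u} [CommRing C] {g : C}
    (h : ∀ z : C, IsNilpotent (g * z) → IsNilpotent z) {Q : Ideal C} (hQ : Q ∈ minimalPrimes C) :
    g ∉ Q := by
  intro hg
  have hQ' : Q ∈ (nilradical C).minimalPrimes := by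
    rw [nilradical, Ideal.zero_eq_bot, Ideal.radical_minimalPrimes]
    exact hQ
  obtain ⟨y, hy, hgy⟩ := Ideal.exists_mul_mem_of_mem_minimalPrimes hQ' hg
  exact hy (mem_nilradical.2 (h y (mem_nilradical.1 hgy)))

theorem not_le_minimalPrime_of_interior_eq_empty {C : Type u} [CommRing C] [IsNoetherianRing C]
    {J : Ideal C} (h : interior (PrimeSpectrum.zeroLocus (J : Set C)) = ∅) {Q : Ideal C}
    (hQ : Q ∈ minimalPrimes C) : ¬ J ≤ Q := by
  classical
  intro hJQ
  let S := (minimalPrimes.finite_of_isNoetherianRing C).toFinset.erase Q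
  have hS : ¬ S.inf id ≤ Q := by
    intro hle
    obtain ⟨Q', hQ', hle'⟩ := (hQ.1.1.inf_le').1 hle
    rw [Finset.mem_erase, Set.Finite.mem_toFinset] at hQ'
    exact hQ'.1 (le_antisymm hle' (hQ.2 hQ'.2.1 hle'))
  obtain ⟨c, hc, hcQ⟩ := SetLike.not_le_iff_exists.1 hS
  have hsub : (PrimeSpectrum.basicOpen c : Set (PrimeSpectrum C)) ⊆
      PrimeSpectrum.zeroLocus (J : Set C) := by
    intro P hP
    obtain ⟨Q', hQ', hle'⟩ := Ideal.exists_minimalPrimes_le (I := (⊥ : Ideal C)) (J := P.asIdeal) bot_le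
    by_cases he : Q' = Q
    · exact hJQ.trans (he ▸ hle')
    · exact absurd (hle' ((Finset.inf_le (f := id) (Finset.mem_erase.2
        ⟨he, (minimalPrimes.finite_of_isNoetherianRing C).mem_toFinset.2 hQ'⟩) : S.inf id ≤ Q') hc)) hP
  have hmem := interior_maximal hsub (PrimeSpectrum.basicOpen c).isOpen
    (show (⟨Q, hQ.1.1⟩ : PrimeSpectrum C) ∈ _ from hcQ)
  rw [h] at hmem
  exact hmem

theorem interior_zeroLocus_eq_empty {C : Type u} [CommRing C] {g : C} {J : Set C} (hgJ : g ∈ J)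
    (h : ∀ z : C, IsNilpotent (g * z) → IsNilpotent z) :
    interior (PrimeSpectrum.zeroLocus J) = ∅ := by
  refine Set.eq_empty_of_forall_notMem fun P hP => ?_
  obtain ⟨Q, hQ, hQP⟩ := Ideal.exists_minimalPrimes_le (I := (⊥ : Ideal C)) (J := P.asIdeal) bot_le
  have hQP' : (⟨Q, hQ.1.1⟩ : PrimeSpectrum C) ⤳ P := (PrimeSpectrum.le_iff_specializes _ _).1 hQP
  exact notMem_minimalPrimes_of_mul_reg h hQ
    ((interior_subset (hQP'.mem_open isOpen_interior hP) :
      (⟨Q, hQ.1.1⟩ : PrimeSpectrum C) ∈ PrimeSpectrum.zeroLocus J) hgJ)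

set_option backward.isDefEq.respectTransparency false in
theorem Model.chart_toX {L : CommRingCat.{u}} {ι : Spec L ⟶ Y} (ψ : M.A ⟶ L)
    (hψ : Spec.map ψ ≫ M.u = ι) (i : Fin M.n) (S : Set X) (J : Set (M.B i))
    (hJ : M.toX i ⁻¹' S = PrimeSpectrum.zeroLocus J) :
    letI := ψ.hom.toAlgebra
    M.chart ψ hψ i ⁻¹' (pullback.fst f ι ⁻¹' S) =
      PrimeSpectrum.zeroLocus ((fun b : M.B i => (1 : L) ⊗ₜ[M.A] b) '' J) := by
  letI := ψ.hom.toAlgebra
  rw [← Set.preimage_comp,
    show ((pullback.fst f ι) ∘ (M.chart ψ hψ i) : _ → X) = (M.toX i) ∘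
      (PrimeSpectrum.comap (Algebra.TensorProduct.includeRight : M.B i →ₐ[M.A] L ⊗[M.A] M.B i).toRingHom)
      from funext fun p => congr($(M.chart_fst ψ hψ i) p),
    Set.preimage_comp, hJ, PrimeSpectrum.preimage_comap_zeroLocus]
  rfl

theorem Model.exists_zeroLocus {S : Set X} (hS : IsClosed S) (i : Fin M.n) :
    ∃ J : Ideal (M.B i), M.toX i ⁻¹' S = PrimeSpectrum.zeroLocus (J : Set (M.B i)) :=
  (PrimeSpectrum.isClosed_iff_zeroLocus_ideal _).1 (hS.preimage (M.toX i).continuous)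

set_option backward.isDefEq.respectTransparency false in
theorem exists_nowhereDense [IrreducibleSpace Y] [LocallyOfFiniteType f] [QuasiCompact f]
    (Z : Set X) (hZ : IsClosed Z) (η : Y) (hη : IsGenericPoint η Set.univ)
    (h : IsNowhereDense ((f.fiberι η) ⁻¹' Z)) :
    ∃ V : Y.Opens, (V : Set Y).Nonempty ∧ ∀ y ∈ V, IsNowhereDense ((f.fiberι y) ⁻¹' Z) := by
  obtain ⟨M⟩ := exists_model f
  obtain ⟨ψη, hinj, hψη⟩ := M.generic η hη
  choose J hJ using fun i => M.exists_zeroLocus hZ i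
  letI := ψη.hom.toAlgebra
  let K := Y.residueField η
  have hgen : ∀ i, ∃ g ∈ J i, ∀ z : K ⊗[M.A] M.B i,
      IsNilpotent (((1 : K) ⊗ₜ g) * z) → IsNilpotent z := by
    intro i
    have h0 : interior ((f.fiberι η) ⁻¹' Z) = ∅ := by
      rwa [IsNowhereDense, (hZ.preimage (f.fiberι η).continuous).closure_eq] at h
    obtain ⟨hopen, hcov⟩ := M.chart_spec ψη hψη
    have hi := (interior_preimage_eq_empty_iff (fun i => (M.chart ψη hψη i : _ → _))
      (fun i => (M.chart ψη hψη i).isOpenEmbedding) hcov _).1 h0 i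
    erw [M.chart_toX ψη hψη i Z _ (hJ i)] at hi
    rw [← PrimeSpectrum.zeroLocus_span] at hi
    have : IsNoetherianRing (K ⊗[M.A] M.B i) := Algebra.FiniteType.isNoetherianRing K _
    classical
    let T := (minimalPrimes.finite_of_isNoetherianRing (K ⊗[M.A] M.B i)).toFinset
    by_contra hcon
    push Not at hcon
    have hcover : ∀ g ∈ J i, ∃ Q ∈ T, (1 : K) ⊗ₜ g ∈ Q := by
      intro g hg
      by_contra hne
      push Not at hne
      obtain ⟨z, hz1, hz2⟩ := hcon g hg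
      exact hz2 (mul_reg_of_forall_notMem_minimalPrimes
        (fun Q hQ => hne Q ((minimalPrimes.finite_of_isNoetherianRing _).mem_toFinset.2 hQ)) z hz1)
    let ρ := (Algebra.TensorProduct.includeRight : M.B i →ₐ[M.A] K ⊗[M.A] M.B i).toRingHom
    obtain ⟨Q, hQ, hle⟩ := (Ideal.subset_union_prime (s := T) (f := fun Q => Q.comap ρ) ⊥ ⊥
      (fun Q hQ _ _ => by
        have : Q.IsPrime := ((minimalPrimes.finite_of_isNoetherianRing _).mem_toFinset.1 hQ).1.1
        infer_instance) (I := J i)).1 fun g hg => by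
      obtain ⟨Q, hQ, hgQ⟩ := hcover g hg
      exact Set.mem_biUnion hQ hgQ
    refine not_le_minimalPrime_of_interior_eq_empty hi
      ((minimalPrimes.finite_of_isNoetherianRing _).mem_toFinset.1 hQ) (Ideal.span_le.2 ?_)
    rintro _ ⟨g, hg, rfl⟩
    exact hle hg
  choose g hg hgreg using hgen
  obtain ⟨V, hV, hP⟩ := M.exists_forall_chart
    (fun i L _ _ => ∀ z : L ⊗[M.A] M.B i, IsNilpotent (((1 : L) ⊗ₜ g i) * z) → IsNilpotent z)
    fun i => exists_nilpotent_of_mul K hinj (g i) (hgreg i)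
  refine ⟨V, hV, fun y hy => ?_⟩
  obtain ⟨ψ, hψ, hreg⟩ := hP y hy
  rw [IsNowhereDense, (hZ.preimage (f.fiberι y).continuous).closure_eq]
  letI := ψ.hom.toAlgebra
  obtain ⟨hopen, hcov⟩ := M.chart_spec ψ hψ
  refine (interior_preimage_eq_empty_iff (fun i => (M.chart ψ hψ i : _ → _))
      (fun i => (M.chart ψ hψ i).isOpenEmbedding) hcov _).2 fun i => ?_
  erw [M.chart_toX ψ hψ i Z _ (hJ i)]
  exact interior_zeroLocus_eq_empty ⟨g i, hg i, rfl⟩ (hreg i)

set_option backward.isDefEq.respectTransparency false in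
theorem exists_fibre_subset [IrreducibleSpace Y] [LocallyOfFiniteType f] [QuasiCompact f]
    (T : Set X) (hT : IsClosed T) (η : Y) (hη : IsGenericPoint η Set.univ)
    (h : (f.fiberι η) ⁻¹' T = Set.univ) :
    ∃ V : Y.Opens, (V : Set Y).Nonempty ∧ ∀ y ∈ V, (f.fiberι y) ⁻¹' T = Set.univ := by
  obtain ⟨M⟩ := exists_model f
  obtain ⟨ψη, hinj, hψη⟩ := M.generic η hη
  choose J hJ using fun i => M.exists_zeroLocus hT i
  letI := ψη.hom.toAlgebra
  let K := Y.residueField η
  have hnil : ∀ i, ∀ g ∈ J i, IsNilpotent ((1 : K) ⊗ₜ[M.A] g) := by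
    intro i g hg
    rw [nilpotent_iff_mem_prime]
    intro P hP
    have : (⟨P, hP⟩ : PrimeSpectrum (K ⊗[M.A] M.B i)) ∈
        M.chart ψη hψη i ⁻¹' ((f.fiberι η) ⁻¹' T) :=
      (Set.ext_iff.1 h (M.chart ψη hψη i _)).2 trivial
    erw [M.chart_toX ψη hψη i T _ (hJ i)] at this
    exact this ⟨g, hg, rfl⟩
  obtain ⟨V, hV, hP⟩ := M.exists_forall_chart
    (fun i L _ _ => ∀ x : M.B i, (1 : K) ⊗ₜ[M.A] x = 0 → (1 : L) ⊗ₜ[M.A] x = 0)
    fun i => exists_killed (B := M.B i) K (M.B i) hinj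
  refine ⟨V, hV, fun y hy => Set.eq_univ_of_forall fun x => ?_⟩
  obtain ⟨ψ, hψ, hk⟩ := hP y hy
  let _ := ψ.hom.toAlgebra
  obtain ⟨hopen, hcov⟩ := M.chart_spec ψ hψ
  obtain ⟨i, p, rfl⟩ := hcov x
  show p ∈ M.chart ψ hψ i ⁻¹' ((f.fiberι y) ⁻¹' T)
  erw [M.chart_toX ψ hψ i T _ (hJ i)]
  rintro _ ⟨g, hg, rfl⟩
  obtain ⟨m, hm⟩ := hnil i g hg
  refine p.isPrime.mem_of_pow_mem m ?_
  rw [Algebra.TensorProduct.tmul_pow, one_pow]
  rw [Algebra.TensorProduct.tmul_pow, one_pow] at hm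
  rw [hk i _ hm]
  exact zero_mem _

/-! ### scheme theoretic density -/

theorem eq_zero_of_pow_mul_eq_zero {C : Type u} [CommRing C] {n : ℕ} (g : Fin n → C)
    (h : ∀ z : C, (∀ j, g j * z = 0) → z = 0) :
    ∀ (z : C), (∀ j, ∃ k : ℕ, g j ^ k * z = 0) → z = 0 := by
  classical
  intro z hz
  choose k hk using hz
  induction hs : ∑ j, k j using Nat.strong_induction_on generalizing z k with
  | _ s ih =>
    refine h z fun i => ?_
    by_cases hi : k i = 0
    · have := hk i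
      rw [hi, pow_zero, one_mul] at this
      rw [this, mul_zero]
    · refine ih _ ?_ (g i * z) (fun j => if j = i then k j - 1 else k j) (fun j => ?_) rfl
      · rw [← hs]
        refine Finset.sum_lt_sum (fun j _ => ?_) ⟨i, Finset.mem_univ i, ?_⟩
        · split_ifs <;> omega
        · rw [if_pos rfl]; omega
      · split_ifs with hj
        · rw [hj, ← mul_assoc, ← pow_succ, Nat.sub_add_cancel (Nat.one_le_iff_ne_zero.2 hi)]
          exact hk i
        · rw [mul_left_comm, hk j, mul_zero]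

set_option backward.isDefEq.respectTransparency false in
theorem injective_app_ι_iff {F : Scheme.{u}} (O : F.Opens) {W : F.Opens} (hW : IsAffineOpen W)
    {n : ℕ} (g : Fin n → Γ(F, W)) (hg : W ⊓ O = ⨆ j, F.basicOpen (g j)) :
    Function.Injective (O.ι.app W) ↔ ∀ z : Γ(F, W), (∀ j, ∃ k : ℕ, g j ^ k * z = 0) → z = 0 := by
  have hle : ∀ j, F.basicOpen (g j) ≤ W ⊓ O := fun j => hg ▸ le_iSup (fun j => F.basicOpen (g j)) j
  have e : O.ι ''ᵁ O.ι ⁻¹ᵁ W = W ⊓ O := by
    rw [Scheme.Hom.image_preimage_eq_opensRange_inf, Scheme.Opens.opensRange_ι, inf_comm]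
  have key : ∀ z : Γ(F, W), O.ι.app W z = 0 ↔ ∀ j, ∃ k : ℕ, g j ^ k * z = 0 := by
    intro z
    have := fun j => hW.isLocalization_basicOpen (g j)
    have hloc : ∀ j, (F.presheaf.map (homOfLE (F.basicOpen_le (g j))).op z = 0 ↔
        ∃ k : ℕ, g j ^ k * z = 0) := fun j => by
      rw [show F.presheaf.map (homOfLE (F.basicOpen_le (g j))).op z =
        algebraMap Γ(F, W) Γ(F, F.basicOpen (g j)) z from rfl,
        IsLocalization.map_eq_zero_iff (Submonoid.powers (g j))]
      constructor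
      · rintro ⟨⟨_, k, rfl⟩, hk⟩; exact ⟨k, hk⟩
      · rintro ⟨k, hk⟩; exact ⟨⟨_, k, rfl⟩, hk⟩
    simp only [← hloc, Scheme.Opens.ι_app]
    constructor
    · intro hz j
      have := congrArg (F.presheaf.map (homOfLE ((hle j).trans e.ge)).op) hz
      have h2 := this.trans (map_zero _)
      erw [← CommRingCat.comp_apply, ← Functor.map_comp] at h2
      exact h2
    · intro hz
      refine TopCat.Sheaf.eq_of_locally_eq' F.sheaf (fun j => F.basicOpen (g j)) _
        (fun j => homOfLE ((hle j).trans e.ge)) (e.le.trans hg.le) _ _ fun j => ?_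
      erw [map_zero, ← CommRingCat.comp_apply, ← Functor.map_comp]
      exact hz j
  refine ⟨fun h z hz => h (by rw [(key z).2 hz, map_zero]), fun h => ?_⟩
  exact (injective_iff_map_eq_zero _).2 fun z hz => h z ((key z).1 hz)

set_option backward.isDefEq.respectTransparency false in
theorem injective_app_ι_chart_iff {F : Scheme.{u}} (O : F.Opens) {C : CommRingCat.{u}}
    (c : Spec C ⟶ F) [IsOpenImmersion c] {n : ℕ} (g : Fin n → C)
    (hg : c ⁻¹' (O : Set F) = ⋃ j, (PrimeSpectrum.basicOpen (g j) : Set (PrimeSpectrum C))) :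
    Function.Injective (O.ι.app (c ''ᵁ ⊤)) ↔
      ∀ z : C, (∀ j, ∃ k : ℕ, g j ^ k * z = 0) → z = 0 := by
  let θ := (Scheme.ΓSpecIso C).inv ≫ (c.appIso ⊤).inv
  have hθ : Function.Bijective θ := ConcreteCategory.bijective_of_isIso θ
  rw [injective_app_ι_iff O ((isAffineOpen_top _).image_of_isOpenImmersion c) (fun j => θ (g j)) ?_]
  · constructor
    · intro h z hz
      refine hθ.1 ((h (θ z) fun j => ?_).trans (map_zero _).symm)
      obtain ⟨k, hk⟩ := hz j
      exact ⟨k, by rw [← map_pow, ← map_mul, hk, map_zero]⟩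
    · intro h z hz
      obtain ⟨z, rfl⟩ := hθ.2 z
      rw [h z fun j => ?_, map_zero]
      obtain ⟨k, hk⟩ := hz j
      rw [← map_pow, ← map_mul] at hk
      exact ⟨k, hθ.1 (hk.trans (map_zero _).symm)⟩
  · have e : ∀ j, F.basicOpen (θ (g j)) = c ''ᵁ (PrimeSpectrum.basicOpen (g j)) := fun j => by
      show F.basicOpen ((c.appIso ⊤).inv ((Scheme.ΓSpecIso C).inv (g j))) = _
      rw [← Scheme.image_basicOpen, basicOpen_eq_of_affine]
    simp only [e]
    ext x
    constructor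
    · rintro ⟨⟨p, -, rfl⟩, hx⟩
      obtain ⟨j, hj⟩ := Set.mem_iUnion.1 (hg.subset hx)
      exact Opens.mem_iSup.2 ⟨j, p, hj, rfl⟩
    · intro hx
      obtain ⟨j, p, hp, rfl⟩ := Opens.mem_iSup.1 hx
      exact ⟨⟨p, trivial, rfl⟩, hg.superset (Set.mem_iUnion.2 ⟨j, hp⟩)⟩

set_option backward.isDefEq.respectTransparency false in
theorem exists_schemeTheoreticallyDominant [IrreducibleSpace Y] [LocallyOfFiniteType f]
    [QuasiCompact f] (U : X.Opens) (η : Y) (hη : IsGenericPoint η Set.univ)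
    (h : IsSchemeTheoreticallyDominant (f.fiberι η ⁻¹ᵁ U).ι) :
    ∃ V : Y.Opens, (V : Set Y).Nonempty ∧
      ∀ y ∈ V, IsSchemeTheoreticallyDominant (f.fiberι y ⁻¹ᵁ U).ι := by
  classical
  obtain ⟨M⟩ := exists_model f
  obtain ⟨ψη, hinj, hψη⟩ := M.generic η hη
  choose J hJ using fun i => M.exists_zeroLocus U.isOpen.isClosed_compl i
  letI := ψη.hom.toAlgebra
  let K := Y.residueField η
  have hN : ∀ i, IsNoetherianRing (K ⊗[M.A] M.B i) := fun i =>
    Algebra.FiniteType.isNoetherianRing K _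
  have hgen : ∀ i, ∃ (n : ℕ) (g : Fin n → M.B i), (∀ j, g j ∈ J i) ∧
      ∀ z : K ⊗[M.A] M.B i, (∀ j, ((1 : K) ⊗ₜ g j) * z = 0) → z = 0 := by
    intro i
    have := hN i
    obtain ⟨s, hs, hspan⟩ := (Submodule.fg_span_iff_fg_span_finset_subset _).1
      ((IsNoetherian.noetherian (Ideal.span
        ((fun b : M.B i => (1 : K) ⊗ₜ[M.A] b) '' (J i : Set (M.B i))))))
    let g' : Fin s.card → K ⊗[M.A] M.B i := fun j => (s.equivFin.symm j).1
    choose g hg hgg using fun j => hs (s.equivFin.symm j).2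
    simp only at hgg
    refine ⟨s.card, g, hg, fun z hz => ?_⟩
    have hpre : M.chart ψη hψη i ⁻¹' ((f.fiberι η ⁻¹ᵁ U : (f.fiber η).Opens) : Set (f.fiber η)) =
        (⋃ j, (PrimeSpectrum.basicOpen ((1 : K) ⊗ₜ[M.A] g j) : Set (PrimeSpectrum (K ⊗[M.A] M.B i)))) := by
      have e := M.chart_toX ψη hψη i (U : Set X)ᶜ _ (hJ i)
      rw [← PrimeSpectrum.zeroLocus_span,
        show Ideal.span ((fun b : M.B i => (1 : K) ⊗ₜ[M.A] b) '' (J i : Set (M.B i))) =
          Ideal.span (s : Set _) from hspan, PrimeSpectrum.zeroLocus_span] at e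
      apply compl_injective
      refine e.trans ?_
      rw [Set.compl_iUnion]
      ext P
      simp only [PrimeSpectrum.mem_zeroLocus, Set.mem_iInter, Set.mem_compl_iff, SetLike.mem_coe,
        PrimeSpectrum.mem_basicOpen, not_not]
      constructor
      · intro hP j
        rw [hgg j]
        exact hP (s.equivFin.symm j).2
      · intro hP x hx
        have := hP (s.equivFin ⟨x, hx⟩)
        rw [hgg] at this
        simpa using this
    obtain ⟨hopen, -⟩ := M.chart_spec ψη hψη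
    have : LocallyOfFiniteType (f.fiberToSpecResidueField η) :=
      MorphismProperty.pullback_snd (P := @LocallyOfFiniteType) _ _ inferInstance
    have : IsLocallyNoetherian (f.fiber η) :=
      LocallyOfFiniteType.isLocallyNoetherian (f.fiberToSpecResidueField η)
    have hinjO := Scheme.Hom.app_injective (f.fiberι η ⁻¹ᵁ U).ι (M.chart ψη hψη i ''ᵁ ⊤)
    exact (injective_app_ι_chart_iff _ (M.chart ψη hψη i) _ hpre).1 hinjO z
      fun j => ⟨1, by rw [pow_one]; exact hz j⟩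
  choose n g hgJ hg using hgen
  obtain ⟨V, hV, hP⟩ := M.exists_forall_chart
    (fun i L _ _ => ∀ z : L ⊗[M.A] M.B i, (∀ j, ((1 : L) ⊗ₜ g i j) * z = 0) → z = 0)
    fun i => exists_annihilator_eq_zero K hinj (g i) (hg i)
  refine ⟨V, hV, fun y hy => ?_⟩
  obtain ⟨ψ, hψ, hreg⟩ := hP y hy
  letI := ψ.hom.toAlgebra
  obtain ⟨hopen, hcov⟩ := M.chart_spec ψ hψ
  let O := f.fiberι y ⁻¹ᵁ U
  have : LocallyOfFiniteType (f.fiberToSpecResidueField y) :=
    MorphismProperty.pullback_snd (P := @LocallyOfFiniteType) _ _ inferInstance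
  have : IsLocallyNoetherian (f.fiber y) :=
    LocallyOfFiniteType.isLocallyNoetherian (f.fiberToSpecResidueField y)
  have hqc : QuasiCompact O.ι := inferInstance
  rw [isSchemeTheoreticallyDominant_iff]
  refine Scheme.IdealSheafData.ext_of_iSup_eq_top
    (fun i => ⟨M.chart ψ hψ i ''ᵁ ⊤, (isAffineOpen_top _).image_of_isOpenImmersion _⟩)
    (top_le_iff.mp fun x _ => ?_) fun i => ?_
  · obtain ⟨i, p, rfl⟩ := hcov x
    exact Opens.mem_iSup.2 ⟨i, p, trivial, rfl⟩
  rw [Scheme.Hom.ker_apply, Scheme.IdealSheafData.ideal_bot, Pi.bot_apply,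
    ← RingHom.injective_iff_ker_eq_bot]
  -- the opens cut out by the chosen elements
  let O' : (f.fiber y).Opens := M.chart ψ hψ i ''ᵁ
    ⨆ j, (PrimeSpectrum.basicOpen ((1 : Y.residueField y) ⊗ₜ[M.A] g i j))
  have hsub : (⋃ j, (PrimeSpectrum.basicOpen ((1 : Y.residueField y) ⊗ₜ[M.A] g i j) :
      Set (PrimeSpectrum ((Y.residueField y) ⊗[M.A] M.B i)))) ⊆
      M.chart ψ hψ i ⁻¹' (O : Set (f.fiber y)) := by
    intro P hP
    obtain ⟨j, hj⟩ := Set.mem_iUnion.1 hP
    by_contra hc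
    exact hj (((M.chart_toX ψ hψ i (U : Set X)ᶜ _ (hJ i)).subset hc) ⟨g i j, hgJ i j, rfl⟩)
  have hO'le : O' ≤ O := by
    rintro _ ⟨P, hP, rfl⟩
    obtain ⟨j, hj⟩ := Opens.mem_iSup.1 hP
    exact hsub (Set.mem_iUnion.2 ⟨j, hj⟩)
  have hinj' : Function.Injective (O'.ι.app (M.chart ψ hψ i ''ᵁ ⊤)) := by
    refine (injective_app_ι_chart_iff O' (M.chart ψ hψ i) _ ?_).2
      (eq_zero_of_pow_mul_eq_zero _ (hreg i))
    show M.chart ψ hψ i ⁻¹' (M.chart ψ hψ i '' _) = _
    rw [Set.preimage_image_eq _ (M.chart ψ hψ i).isOpenEmbedding.injective, Opens.coe_iSup]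
  refine (injective_iff_map_eq_zero _).2 fun z hz => hinj' ?_
  rw [map_zero]
  have hfac : (f.fiber y).homOfLE hO'le ≫ O.ι = O'.ι := Scheme.homOfLE_ι _ _
  have key : ∀ (q : (O' : Scheme.{u}) ⟶ f.fiber y) (_ : (f.fiber y).homOfLE hO'le ≫ O.ι = q),
      q.app (M.chart ψ hψ i ''ᵁ ⊤) z = 0 := by
    rintro q rfl
    rw [Scheme.Hom.comp_app, CommRingCat.comp_apply]
    exact (congrArg _ hz).trans (map_zero _)
  exact key _ hfac

end Groth.Agent.H56.NearGeneric
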