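import Groth.Agent.H56.NearGeneric.Spread
import Groth.Agent.Lib.JacCrit.FieldGeom
import Groth.Agent.Lib.JacCrit.Minimal
import Mathlib.RingTheory.Smooth.Locus
import Mathlib.RingTheory.LocalProperties.Reduced
import Mathlib.RingTheory.Localization.BaseChange
import Mathlib.RingTheory.Localization.LocalizationLocalization

/-!
# Geometrically reduced generic fibres are generically smooth, and this spreads out
-/

set_option autoImplicit false
set_option linter.style.haveILetI false
noncomputable section

universe u

open TensorProduct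

namespace Groth.Agent.H56.NearGeneric

/-- A geometrically reduced algebra of finite type over a field is smooth off a nowhere dense
closed subset. -/
theorem exists_smooth_away (K R : Type u) [Field K] [CommRing R] [Algebra K R]
    [Algebra.FiniteType K R] [Algebra.IsGeometricallyReduced K R] :
    ∃ g : R, (∀ z : R, g * z = 0 → z = 0) ∧ Algebra.Smooth K (Localization.Away g) := by
  classical
  have : IsNoetherianRing R := Algebra.FiniteType.isNoetherianRing K R
  have : Algebra.FinitePresentation K R := Algebra.FinitePresentation.of_finiteType.1 inferInstance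
  have : IsReduced R := Algebra.isReduced_of_isGeometricallyReduced K
  obtain ⟨I, hI⟩ := (PrimeSpectrum.isClosed_iff_zeroLocus_ideal _).1
    (Algebra.isOpen_smoothLocus (R := K) (A := R)).isClosed_compl
  have hmin : ∀ Q ∈ minimalPrimes R, ¬ I ≤ Q := by
    intro Q hQ hle
    have : Q.IsPrime := hQ.1.1
    let L := Localization.AtPrime Q
    have hnil : Ring.KrullDimLE 0 L := Ring.KrullDimLE.of_isLocalization _ hQ _
    have : IsField L := Ring.KrullDimLE.isField_of_isReduced
    let _ := this.toField
    have : Algebra.EssFiniteType R L := .of_isLocalization _ Q.primeCompl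
    have : Algebra.EssFiniteType K L := .comp K R L
    have : Algebra.IsGeometricallyReduced K L := by
      rw [Algebra.isGeometricallyReduced_field_iff]
      let E := AlgebraicClosure K
      have : _root_.IsReduced (E ⊗[K] R) :=
        (Algebra.isGeometricallyReduced_field_iff K R).1 inferInstance
      letI : Algebra (E ⊗[K] R) (E ⊗[K] L) :=
        (Algebra.TensorProduct.map (AlgHom.id K E) (IsScalarTower.toAlgHom K R L)).toRingHom.toAlgebra
      have : IsScalarTower E (E ⊗[K] R) (E ⊗[K] L) := IsScalarTower.of_algebraMap_eq fun e =>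
        ((Algebra.TensorProduct.map (AlgHom.id E E) (IsScalarTower.toAlgHom K R L)).commutes e).symm
      have := IsLocalization.tensorProduct_tensorProduct_right K E Q.primeCompl L (RingHom.ext fun x => by
        simp [RingHom.algebraMap_toAlgebra])
      exact isReduced_localizationPreserves (Q.primeCompl.map (Algebra.TensorProduct.includeRight :
        R →ₐ[K] E ⊗[K] R)) (E ⊗[K] L) inferInstance
    have hs : (⟨Q, hQ.1.1⟩ : PrimeSpectrum R) ∈ Algebra.smoothLocus K R :=
      Lib.JacCrit.FieldGeom.formallySmooth K L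
    exact (hI.superset (show (⟨Q, hQ.1.1⟩ : PrimeSpectrum R) ∈ PrimeSpectrum.zeroLocus (I : Set R)
      from hle)) hs
  obtain ⟨g, hgI, hg⟩ : ∃ g ∈ I, ∀ Q ∈ minimalPrimes R, g ∉ Q := by
    by_contra hcon
    push Not at hcon
    let T := (minimalPrimes.finite_of_isNoetherianRing R).toFinset
    obtain ⟨Q, hQ, hle⟩ := (Ideal.subset_union_prime (s := T) (f := id) ⊥ ⊥
      (fun Q hQ _ _ => ((minimalPrimes.finite_of_isNoetherianRing R).mem_toFinset.1 hQ).1.1)
      (I := I)).1 fun x hx => by
        obtain ⟨Q, hQ, hxQ⟩ := hcon x hx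
        exact Set.mem_biUnion ((minimalPrimes.finite_of_isNoetherianRing R).mem_toFinset.2 hQ) hxQ
    exact hmin Q ((minimalPrimes.finite_of_isNoetherianRing R).mem_toFinset.1 hQ) hle
  refine ⟨g, fun z hz => ?_, Algebra.basicOpen_subset_smoothLocus_iff_smooth.1 fun P hP => ?_⟩
  · refine IsReduced.eq_zero z (nilpotent_iff_mem_prime.2 fun P hP => ?_)
    obtain ⟨Q, hQ, hQP⟩ := Ideal.exists_minimalPrimes_le (I := (⊥ : Ideal R)) (J := P) bot_le
    exact hQP ((hQ.1.1.mem_or_mem (hz ▸ Q.zero_mem : g * z ∈ Q)).resolve_left (hg Q hQ))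
  · by_contra hc
    exact hP (hI.subset hc hgI)

section Spread

attribute [local instance] Algebra.TensorProduct.rightAlgebra

/-- Primes over the generic point of the base are smooth if the generic fibre is. -/
theorem isSmoothAt_of_generic {A C K : Type u} [CommRing A] [IsDomain A] [CommRing C] [Algebra A C]
    [Field K] [Algebra A K] [IsFractionRing A K] [Algebra.Smooth K (K ⊗[A] C)] (P : Ideal C)
    [P.IsPrime] (hP : ∀ a : A, a ≠ 0 → algebraMap A C a ∉ P) : Algebra.IsSmoothAt A P := by
  let T := Localization.AtPrime P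
  let M := Algebra.algebraMapSubmonoid C (nonZeroDivisors A)
  have hM : M ≤ P.primeCompl := by
    rintro _ ⟨a, ha, rfl⟩
    exact hP a (nonZeroDivisors.ne_zero ha)
  have hu : ∀ y : nonZeroDivisors A, IsUnit (Algebra.ofId A T y) := fun y => by
    show IsUnit (algebraMap A T y)
    rw [IsScalarTower.algebraMap_apply A C T]
    exact IsLocalization.map_units T (⟨_, hM ⟨y, y.2, rfl⟩⟩ : P.primeCompl)
  let h : K ⊗[A] C →ₐ[A] T := Algebra.TensorProduct.lift
    (IsLocalization.liftAlgHom (M := nonZeroDivisors A) hu) (IsScalarTower.toAlgHom A C T)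
    fun _ _ => .all _ _
  letI : Algebra (K ⊗[A] C) T := h.toRingHom.toAlgebra
  have : IsScalarTower C (K ⊗[A] C) T := IsScalarTower.of_algebraMap_eq fun x => by
    show _ = h (1 ⊗ₜ x)
    simp [h]
  have : IsScalarTower A (K ⊗[A] C) T := IsScalarTower.of_algebraMap_eq fun r => (h.commutes r).symm
  have : IsLocalization (P.primeCompl.map (algebraMap C (K ⊗[A] C))) T :=
    IsLocalization.isLocalization_of_submonoid_le (K ⊗[A] C) T M P.primeCompl hM
  have : Algebra.FormallyEtale A K := .of_isLocalization (nonZeroDivisors A)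
  have : Algebra.FormallySmooth A (K ⊗[A] C) := .comp A K _
  have : Algebra.FormallySmooth (K ⊗[A] C) T :=
    .of_isLocalization (P.primeCompl.map (algebraMap C (K ⊗[A] C)))
  exact Algebra.FormallySmooth.comp A (K ⊗[A] C) T

/-- Smoothness of the generic fibre spreads out. -/
theorem exists_smooth_baseChange {A C K : Type u} [CommRing A] [IsDomain A] [CommRing C]
    [Algebra A C] [Algebra.FinitePresentation A C] [Field K] [Algebra A K] [IsFractionRing A K]
    [Algebra.Smooth K (K ⊗[A] C)] :
    ∃ a : A, a ≠ 0 ∧ Algebra.Smooth A (Localization.Away (algebraMap A C a)) := by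
  obtain ⟨I, hI⟩ := (PrimeSpectrum.isClosed_iff_zeroLocus_ideal _).1
    (Algebra.isOpen_smoothLocus (R := A) (A := C)).isClosed_compl
  obtain ⟨a, ha, haI⟩ : ∃ a : A, a ≠ 0 ∧ algebraMap A C a ∈ I.radical := by
    by_contra hcon
    push Not at hcon
    let S : Submonoid C := Algebra.algebraMapSubmonoid C (nonZeroDivisors A)
    obtain ⟨P, hP, hle, hdis⟩ := Ideal.exists_le_prime_disjoint I.radical S (by
      rw [Set.disjoint_left]
      rintro _ hx ⟨a, ha, rfl⟩
      exact hcon a (nonZeroDivisors.ne_zero ha) hx)
    rw [Set.disjoint_left] at hdis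
    refine (hI.superset (show (⟨P, hP⟩ : PrimeSpectrum C) ∈ PrimeSpectrum.zeroLocus (I : Set C) from
      Ideal.le_radical.trans hle)) (isSmoothAt_of_generic (K := K) P fun a ha h =>
        hdis h ⟨a, mem_nonZeroDivisors_of_ne_zero ha, rfl⟩)
  refine ⟨a, ha, Algebra.basicOpen_subset_smoothLocus_iff_smooth.1 fun P hP => ?_⟩
  by_contra hc
  exact hP (P.isPrime.radical_le_iff.2 (hI.subset hc) haI)

end Spread

theorem smooth_of_away {A C : Type u} [CommRing A] [CommRing C] [Algebra A C] (a : A)
    [Algebra.Smooth A (Localization.Away (algebraMap A C a))] (L : Type u) [Field L] [Algebra A L]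
    (hL : algebraMap A L a ≠ 0) : Algebra.Smooth L (L ⊗[A] C) := by
  let D := Localization.Away (algebraMap A C a)
  have hu : IsUnit ((Algebra.TensorProduct.includeRight : C →ₐ[A] L ⊗[A] C) (algebraMap A C a)) := by
    rw [AlgHom.commutes, IsScalarTower.algebraMap_apply A L (L ⊗[A] C)]
    exact (isUnit_iff_ne_zero.2 hL).map _
  let back : D →ₐ[A] L ⊗[A] C := IsLocalization.liftAlgHom
    (M := Submonoid.powers (algebraMap A C a)) (f := Algebra.TensorProduct.includeRight) fun y => by
      obtain ⟨n, hn⟩ := y.2
      rw [← hn, map_pow]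
      exact hu.pow n
  let F : L ⊗[A] D →ₐ[L] L ⊗[A] C :=
    Algebra.TensorProduct.lift (Algebra.ofId L _) back fun _ _ => .all _ _
  let G : L ⊗[A] C →ₐ[L] L ⊗[A] D :=
    Algebra.TensorProduct.map (AlgHom.id L L) (IsScalarTower.toAlgHom A C D)
  have h1 : F.comp G = AlgHom.id L _ := by
    apply Algebra.TensorProduct.ext (Subsingleton.elim _ _)
    ext c
    simp [F, G, back]
  have h2 : G.comp F = AlgHom.id L _ := by
    apply Algebra.TensorProduct.ext (Subsingleton.elim _ _)
    refine AlgHom.coe_ringHom_injective (IsLocalization.ringHom_ext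
      (Submonoid.powers (algebraMap A C a)) (RingHom.ext fun c => ?_))
    simp [F, G, back]
  exact Algebra.Smooth.of_equiv (AlgEquiv.ofAlgHom F G h1 h2)

theorem smooth_away_of_equiv {A C L : Type u} [CommRing A] [CommRing C] [Algebra A C] [Field L]
    [Algebra A L] (x : C) [Algebra.Smooth L (Localization.Away ((1 : L) ⊗ₜ[A] x))] :
    Algebra.Smooth L (L ⊗[A] Localization.Away x) := by
  letI : Algebra (L ⊗[A] C) (L ⊗[A] Localization.Away x) := (Algebra.TensorProduct.map
    (AlgHom.id L L) (IsScalarTower.toAlgHom A C (Localization.Away x))).toRingHom.toAlgebra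
  have : IsScalarTower L (L ⊗[A] C) (L ⊗[A] Localization.Away x) :=
    IsScalarTower.of_algebraMap_eq fun l => ((Algebra.TensorProduct.map (AlgHom.id L L)
      (IsScalarTower.toAlgHom A C (Localization.Away x))).commutes l).symm
  have h := IsLocalization.tensorProduct_tensorProduct_right A L (Submonoid.powers x)
    (Localization.Away x) (RingHom.ext fun c => by simp [RingHom.algebraMap_toAlgebra])
  have h' : IsLocalization.Away ((1 : L) ⊗ₜ[A] x) (L ⊗[A] Localization.Away x) := by
    rw [Submonoid.map_powers] at h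
    exact h
  exact Algebra.Smooth.of_equiv
    ((IsLocalization.algEquiv (Submonoid.powers ((1 : L) ⊗ₜ[A] x))
      (Localization.Away ((1 : L) ⊗ₜ[A] x)) (L ⊗[A] Localization.Away x)).restrictScalars L)

end Groth.Agent.H56.NearGeneric
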