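import Groth.Agent.H56.NearGeneric.Reduced
import Groth.Agent.H56.NearGeneric.SmoothAlg

/-!
# Geometrically reduced fibres near the generic point
-/

set_option autoImplicit false
set_option linter.style.haveILetI false
noncomputable section

universe u

open CategoryTheory CategoryTheory.Limits AlgebraicGeometry TopologicalSpace TensorProduct

namespace Groth.Agent.H56.NearGeneric

theorem exists_isReduced_fp {A K B : Type u} [CommRing A] [IsDomain A] [Field K] [Algebra A K]
    [IsFractionRing A K] [CommRing B] [Algebra A B] [Algebra.FinitePresentation A B]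
    [Algebra.IsGeometricallyReduced K (K ⊗[A] B)] :
    ∃ a : A, a ≠ 0 ∧ ∀ (L : Type u) [Field L] [Algebra A L], algebraMap A L a ≠ 0 →
      _root_.IsReduced (L ⊗[A] B) := by
  obtain ⟨g, hg, hsm⟩ := exists_smooth_away K (K ⊗[A] B)
  have hinj : Function.Injective (algebraMap A K) := IsFractionRing.injective A K
  have hepi : Epi (CommRingCat.ofHom (algebraMap A K)) := CommRingCat.epi_iff_epi.2 inferInstance
  obtain ⟨c, hc, x, hx⟩ := exists_smul_eq_of_epi hinj hepi g
  have hu : IsUnit (algebraMap A (K ⊗[A] B) c) := by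
    rw [IsScalarTower.algebraMap_apply A K (K ⊗[A] B)]
    exact (isUnit_iff_ne_zero.2 fun e => hc (hinj (e.trans (map_zero _).symm))).map _
  have hassoc : Associated g ((1 : K) ⊗ₜ[A] x) := by
    rw [← hx, Algebra.smul_def]
    exact ⟨hu.unit, mul_comm _ _⟩
  have hnzd : ∀ z : K ⊗[A] B, ((1 : K) ⊗ₜ[A] x) * z = 0 → z = 0 := fun z hz => by
    rw [← hx, Algebra.smul_def, mul_assoc] at hz
    exact hg z (hu.mul_right_eq_zero.1 hz)
  have : Algebra.Smooth K (Localization.Away ((1 : K) ⊗ₜ[A] x)) := by
    have : IsLocalization.Away ((1 : K) ⊗ₜ[A] x) (Localization.Away g) :=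
      IsLocalization.Away.of_associated hassoc
    exact Algebra.Smooth.of_equiv ((IsLocalization.algEquiv (Submonoid.powers ((1 : K) ⊗ₜ[A] x))
      (Localization.Away g) (Localization.Away ((1 : K) ⊗ₜ[A] x))).restrictScalars K)
  have := smooth_away_of_equiv (A := A) (L := K) x
  have : Algebra.FinitePresentation B (Localization.Away x) :=
    IsLocalization.Away.finitePresentation x
  have : Algebra.FinitePresentation A (Localization.Away x) := .trans A B _
  obtain ⟨a₁, ha₁, hs₁⟩ := exists_smooth_baseChange (A := A) (C := Localization.Away x) (K := K)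
  obtain ⟨a₂, ha₂, h₂⟩ := exists_annihilator_eq_zero (B := B) K hinj (fun _ : Fin 1 => x)
    (fun z hz => hnzd z (hz 0))
  refine ⟨a₁ * a₂, mul_ne_zero ha₁ ha₂, fun L _ _ hL => ?_⟩
  rw [map_mul, mul_ne_zero_iff] at hL
  have := smooth_of_away (C := Localization.Away x) a₁ L hL.1
  have hred : _root_.IsReduced (L ⊗[A] Localization.Away x) :=
    Lib.JacCrit.Minimal.isReduced_of_smooth (K := L)
  let Φ := Algebra.TensorProduct.map (AlgHom.id A L) (IsScalarTower.toAlgHom A B (Localization.Away x))
  refine ⟨fun z hz => ?_⟩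
  have h0 : Φ z = 0 := hred.eq_zero _ (hz.map Φ)
  letI : Algebra (L ⊗[A] B) (L ⊗[A] Localization.Away x) :=
    (Algebra.TensorProduct.map (AlgHom.id L L)
      (IsScalarTower.toAlgHom A B (Localization.Away x))).toRingHom.toAlgebra
  have : IsScalarTower L (L ⊗[A] B) (L ⊗[A] Localization.Away x) :=
    IsScalarTower.of_algebraMap_eq fun l => ((Algebra.TensorProduct.map (AlgHom.id L L)
      (IsScalarTower.toAlgHom A B (Localization.Away x))).commutes l).symm
  have hloc := IsLocalization.tensorProduct_tensorProduct_right A L (Submonoid.powers x)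
    (Localization.Away x) (RingHom.ext fun c => by simp [RingHom.algebraMap_toAlgebra])
  have : IsLocalization.Away ((1 : L) ⊗ₜ[A] x) (L ⊗[A] Localization.Away x) := by
    rw [Submonoid.map_powers] at hloc
    exact hloc
  obtain ⟨⟨_, k, rfl⟩, hk⟩ := (IsLocalization.map_eq_zero_iff
    (Submonoid.powers ((1 : L) ⊗ₜ[A] x)) (L ⊗[A] Localization.Away x) z).1 h0
  refine eq_zero_of_pow_mul_eq_zero (fun _ : Fin 1 => (1 : L) ⊗ₜ[A] x) (h₂ L hL.2) z
    fun _ => ⟨k, hk⟩

theorem exists_isReduced_alg {A K B : Type u} [CommRing A] [IsDomain A] [Field K] [Algebra A K]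
    [IsFractionRing A K] [CommRing B] [Algebra A B] [Algebra.FiniteType A B]
    [Algebra.IsGeometricallyReduced K (K ⊗[A] B)] :
    ∃ a : A, a ≠ 0 ∧ ∀ (L : Type u) [Field L] [Algebra A L], algebraMap A L a ≠ 0 →
      _root_.IsReduced (L ⊗[A] B) := by
  obtain ⟨a₀, ha₀, -, -, hfp, -⟩ := H47.GenericFreeDomain.generic_freeness (R := A) (S := B) (M := B)
  let A' := Localization.Away a₀
  have hle : Submonoid.powers a₀ ≤ nonZeroDivisors A := powers_le_nonZeroDivisors_of_noZeroDivisors ha₀
  have : IsDomain A' := IsLocalization.isDomain_localization hle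
  have hu : IsUnit (algebraMap A K a₀) := isUnit_iff_ne_zero.2 fun e =>
    ha₀ (IsFractionRing.injective A K (e.trans (map_zero _).symm))
  letI : Algebra A' K := (IsLocalization.Away.lift (S := A') a₀ hu).toAlgebra
  have : IsScalarTower A A' K :=
    IsScalarTower.of_algebraMap_eq fun r => (IsLocalization.Away.lift_eq _ hu r).symm
  have : IsFractionRing A' K :=
    IsFractionRing.isFractionRing_of_isDomain_of_isLocalization (Submonoid.powers a₀) A' K
  let e := Algebra.TensorProduct.cancelBaseChange A A' K K B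
  have : Algebra.IsGeometricallyReduced K (K ⊗[A'] (A' ⊗[A] B)) :=
    Algebra.IsGeometricallyReduced.of_injective e.toAlgHom e.injective
  obtain ⟨a', ha', h⟩ := exists_isReduced_fp (A := A') (K := K) (B := A' ⊗[A] B)
  obtain ⟨n, c, hc⟩ := IsLocalization.Away.surj a₀ a'
  refine ⟨a₀ * c, mul_ne_zero ha₀ fun hc0 => ?_, fun L _ _ hL => ?_⟩
  · rw [hc0, map_zero] at hc
    exact ha' (((IsLocalization.Away.algebraMap_isUnit a₀).pow n).mul_left_eq_zero.1 hc)
  rw [map_mul, mul_ne_zero_iff] at hL
  have huL : IsUnit (algebraMap A L a₀) := isUnit_iff_ne_zero.2 hL.1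
  letI : Algebra A' L := (IsLocalization.Away.lift (S := A') a₀ huL).toAlgebra
  have : IsScalarTower A A' L :=
    IsScalarTower.of_algebraMap_eq fun r => (IsLocalization.Away.lift_eq _ huL r).symm
  have := h L fun h0 => hL.2 (by
    rw [IsScalarTower.algebraMap_apply A A' L, ← hc, map_mul, h0, zero_mul])
  exact isReduced_of_injective (Algebra.TensorProduct.cancelBaseChange A A' L L B).symm.toAlgHom
    (Algebra.TensorProduct.cancelBaseChange A A' L L B).symm.injective

/-- Geometric reducedness of `K ⊗ B` can be tested on algebraically closed fields over `A`. -/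
theorem isGeometricallyReduced_tensor {A K B : Type u} [CommRing A] [Field K] [Algebra A K]
    [CommRing B] [Algebra A B]
    (h : ∀ (E : Type u) [Field E] [Algebra K E] [Algebra A E] [IsScalarTower A K E],
      _root_.IsReduced (E ⊗[A] B)) :
    Algebra.IsGeometricallyReduced K (K ⊗[A] B) := by
  rw [Algebra.isGeometricallyReduced_field_iff]
  let E := AlgebraicClosure K
  let e := Algebra.TensorProduct.cancelBaseChange A K E E B
  exact @isReduced_of_injective _ _ _ _ _ _ _ e.toAlgHom e.injective (h E)

variable {X Y : Scheme.{u}} {f : X ⟶ Y}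

set_option backward.isDefEq.respectTransparency false in
theorem Model.isReduced_chart (M : Model f) {L : CommRingCat.{u}} {ι : Spec L ⟶ Y} (ψ : M.A ⟶ L)
    (hψ : Spec.map ψ ≫ M.u = ι) (h : IsReduced (pullback f ι)) (i : Fin M.n) :
    letI := ψ.hom.toAlgebra
    _root_.IsReduced (L ⊗[M.A] M.B i) := by
  letI := ψ.hom.toAlgebra
  have := (M.chart_spec ψ hψ).1 i
  have := isReduced_of_isOpenImmersion (M.chart ψ hψ i)
  exact (affine_isReduced_iff _).1 this

theorem Model.isReduced_chart_alg (M : Model f) {L : Type u} [CommRing L] [inst : Algebra M.A L]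
    {ι : Spec (CommRingCat.of L) ⟶ Y} (ψ : M.A ⟶ CommRingCat.of L)
    (hψa : ψ.hom = algebraMap M.A L) (hψ : Spec.map ψ ≫ M.u = ι) (h : IsReduced (pullback f ι))
    (i : Fin M.n) : _root_.IsReduced (L ⊗[M.A] M.B i) := by
  obtain rfl : inst = ψ.hom.toAlgebra := Algebra.algebra_ext _ _ fun r => by
    rw [← hψa]; rfl
  exact M.isReduced_chart ψ hψ h i

/-- Reducedness of all geometric fibres of a morphism with geometrically reduced generic fibre. -/
theorem isReduced_geometric (y : Y) (h : GeometricallyReduced (f.fiberToSpecResidueField y))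
    (E : Type u) [Field E] (χ : Y.residueField y ⟶ CommRingCat.of E) :
    IsReduced (pullback f (Spec.map χ ≫ Y.fromSpecResidueField y)) := by
  have hsq := IsPullback.paste_horiz
    (IsPullback.of_hasPullback (f.fiberToSpecResidueField y) (Spec.map χ))
    (IsPullback.of_hasPullback f (Y.fromSpecResidueField y))
  have : IsReduced (pullback (f.fiberToSpecResidueField y) (Spec.map χ)) :=
    h.geometrically_isReduced _ _ _ (IsPullback.of_hasPullback _ _)
  exact isReduced_of_isOpenImmersion hsq.isoPullback.inv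

set_option backward.isDefEq.respectTransparency false in
/-- Geometric reducedness of a restriction, tested on fields. -/
theorem geometricallyReduced_restrict {V : Y.Opens}
    (h : ∀ y ∈ V, ∀ (L : Type u) [Field L] (χ : Y.residueField y ⟶ CommRingCat.of L),
      IsReduced (pullback f (Spec.map χ ≫ Y.fromSpecResidueField y))) :
    GeometricallyReduced (f ∣_ V) := by
  refine ⟨geometrically_iff_of_isClosedUnderIsomorphisms.2 fun L _ ι => ?_⟩
  obtain ⟨⟨y, χ⟩, hιe⟩ := (Scheme.SpecToEquivOfField L Y).symm.surjective (ι ≫ V.ι)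
  have hιe' : Spec.map χ ≫ Y.fromSpecResidueField y = ι ≫ V.ι := hιe
  have hy : y ∈ V := by
    have : (Spec.map χ ≫ Y.fromSpecResidueField y) (IsLocalRing.closedPoint L) = y := by
      rw [Scheme.Hom.comp_apply]
      exact Scheme.fromSpecResidueField_apply y (Spec.map χ (IsLocalRing.closedPoint L))
    rw [← this, hιe']
    exact (ι (IsLocalRing.closedPoint L)).2
  have := h y hy L χ
  rw [hιe'] at this
  have hsq := IsPullback.paste_horiz (IsPullback.of_hasPullback (f ∣_ V) ι)
    (isPullback_morphismRestrict f V).flip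
  exact isReduced_of_isOpenImmersion hsq.isoPullback.hom

theorem Model.isGeometricallyReduced (M : Model f) {η : Y} (ψη : M.A ⟶ Y.residueField η)
    (hψη : Spec.map ψη ≫ M.u = Y.fromSpecResidueField η)
    (h : GeometricallyReduced (f.fiberToSpecResidueField η)) (i : Fin M.n) :
    letI := ψη.hom.toAlgebra
    Algebra.IsGeometricallyReduced (Y.residueField η) (Y.residueField η ⊗[M.A] M.B i) := by
  letI := ψη.hom.toAlgebra
  refine isGeometricallyReduced_tensor fun E _ _ _ _ => ?_
  let χ : Y.residueField η ⟶ CommRingCat.of E := CommRingCat.ofHom (algebraMap (Y.residueField η) E)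
  refine M.isReduced_chart_alg (ψη ≫ χ) ?_ ?_ (isReduced_geometric η h E χ) i
  · exact RingHom.ext fun r => (IsScalarTower.algebraMap_apply M.A (Y.residueField η) E r).symm
  · rw [Spec.map_comp, Category.assoc, hψη]

theorem exists_geometricallyReduced [IrreducibleSpace Y] [LocallyOfFiniteType f]
    [QuasiCompact f] (η : Y) (hη : IsGenericPoint η Set.univ)
    (h : GeometricallyReduced (f.fiberToSpecResidueField η)) :
    ∃ V : Y.Opens, (V : Set Y).Nonempty ∧ GeometricallyReduced (f ∣_ V) := by
  obtain ⟨M⟩ := exists_model f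
  obtain ⟨ψη, hinj, hψη⟩ := M.generic η hη
  letI := ψη.hom.toAlgebra
  have : IsFractionRing M.A (Y.residueField η) := M.isFractionRing ψη hinj hψη
  have hgr := M.isGeometricallyReduced ψη hψη h
  choose a ha hred using fun i =>
    exists_isReduced_alg (A := M.A) (K := Y.residueField η) (B := M.B i)
  classical
  obtain ⟨V, hV, hψ⟩ := M.near (∏ i, a i) (Finset.prod_ne_zero_iff.2 fun i _ => ha i)
  refine ⟨V, hV, geometricallyReduced_restrict fun y hy L _ χ => ?_⟩
  obtain ⟨ψ, hψa, hψe⟩ := hψ y hy
  have hψ' : Spec.map (ψ ≫ χ) ≫ M.u = Spec.map χ ≫ Y.fromSpecResidueField y := by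
    rw [Spec.map_comp, Category.assoc, hψe]
  by_contra hcon
  letI := (ψ ≫ χ).hom.toAlgebra
  obtain ⟨i, hi⟩ := exists_not_isReduced_chart M (ψ ≫ χ) hψ' hcon
  refine hi (hred i L fun h0 => hψa ?_)
  have h1 : ψ (a i) = 0 := χ.hom.injective (h0.trans (map_zero χ.hom).symm)
  rw [map_prod]
  exact Finset.prod_eq_zero (Finset.mem_univ i) h1

end Groth.Agent.H56.NearGeneric
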