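import Groth.Agent.H56.NearGeneric.Spread
import Mathlib.AlgebraicGeometry.Morphisms.FiniteType
import Mathlib.AlgebraicGeometry.Fiber
import Mathlib.AlgebraicGeometry.PullbackCarrier
import Mathlib.AlgebraicGeometry.Morphisms.ClosedImmersion

/-!
# An affine model of a morphism near the generic point of an irreducible base
-/

set_option autoImplicit false
set_option linter.style.haveILetI false
noncomputable section

universe u

open CategoryTheory CategoryTheory.Limits AlgebraicGeometry TopologicalSpace TensorProduct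

namespace Groth.Agent.H56.NearGeneric

set_option backward.isDefEq.respectTransparency false in
theorem exists_domain_chart (Y : Scheme.{u}) [IrreducibleSpace Y] :
    ∃ (A : CommRingCat.{u}) (_ : IsDomain A) (u : Spec A ⟶ Y), Mono u ∧
      ∀ a : A, a ≠ 0 → ∃ V : Y.Opens, (V : Set Y).Nonempty ∧ ∀ y ∈ V,
        ∃ ψ : A ⟶ Y.residueField y, ψ a ≠ 0 ∧ Spec.map ψ ≫ u = Y.fromSpecResidueField y := by
  have : Nonempty Y := inferInstance
  obtain ⟨x⟩ := this
  obtain ⟨V₀, hV₀, hxV, -⟩ := exists_isAffineOpen_mem_and_subset (U := ⊤) (x := x) trivial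
  have hne : Nonempty (V₀ : Scheme.{u}) := ⟨⟨x, hxV⟩⟩
  have hirr : IrreducibleSpace (PrimeSpectrum Γ(Y, V₀)) := by
    have h := (IrreducibleSpace.isIrreducible_univ Y).preimage hV₀.fromSpec.isOpenEmbedding
      ⟨x, trivial, by rw [hV₀.range_fromSpec]; exact hxV⟩
    rw [Set.preimage_univ] at h
    exact (irreducibleSpace_def _).2 h
  let N := nilradical Γ(Y, V₀)
  have hN : N.IsPrime := PrimeSpectrum.irreducibleSpace_iff_isPrime_nilradical.1 hirr
  let q : Γ(Y, V₀) ⟶ CommRingCat.of (Γ(Y, V₀) ⧸ N) := CommRingCat.ofHom (Ideal.Quotient.mk N)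
  have : IsClosedImmersion (Spec.map q) :=
    IsClosedImmersion.spec_of_surjective _ Ideal.Quotient.mk_surjective
  refine ⟨CommRingCat.of (Γ(Y, V₀) ⧸ N), Ideal.Quotient.isDomain N, Spec.map q ≫ hV₀.fromSpec,
    inferInstance, fun a ha => ?_⟩
  obtain ⟨r, rfl⟩ := Ideal.Quotient.mk_surjective a
  refine ⟨Y.basicOpen r, ?_, fun y hy => ?_⟩
  · obtain ⟨p, hp⟩ : ∃ p : Spec Γ(Y, V₀), p ∈ PrimeSpectrum.basicOpen r :=
      ⟨⟨N, hN⟩, fun h => ha (Ideal.Quotient.eq_zero_iff_mem.2 h)⟩
    refine ⟨hV₀.fromSpec p, ?_⟩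
    rw [← hV₀.fromSpec_image_basicOpen]
    exact ⟨p, hp, rfl⟩
  have hyV : y ∈ V₀ := Y.basicOpen_le r hy
  let l := IsOpenImmersion.lift hV₀.fromSpec (Y.fromSpecResidueField y) (by
    rw [Scheme.range_fromSpecResidueField, hV₀.range_fromSpec]
    exact Set.singleton_subset_iff.2 hyV)
  have hl : l ≫ hV₀.fromSpec = Y.fromSpecResidueField y := IsOpenImmersion.lift_fac _ _ _
  obtain ⟨φ, hφ⟩ : ∃ φ : Γ(Y, V₀) ⟶ Y.residueField y, Spec.map φ = l := ⟨_, Spec.map_preimage _⟩
  have hNφ : ∀ z ∈ N, φ.hom z = 0 := fun z hz => (IsNilpotent.map hz φ.hom).eq_zero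
  refine ⟨CommRingCat.ofHom (Ideal.Quotient.lift N φ.hom hNφ), ?_, ?_⟩
  · show Ideal.Quotient.lift N φ.hom hNφ (Ideal.Quotient.mk N r) ≠ 0
    rw [Ideal.Quotient.lift_mk]
    let pt : Spec (Y.residueField y) := IsLocalRing.closedPoint (Y.residueField y)
    have h1 : l pt ∈ hV₀.fromSpec ⁻¹ᵁ Y.basicOpen r := by
      show (l ≫ hV₀.fromSpec) pt ∈ Y.basicOpen r
      rwa [hl, Scheme.fromSpecResidueField_apply]
    rw [hV₀.fromSpec_preimage_basicOpen, ← hφ] at h1
    intro h0
    exact h1 (by show φ.hom r ∈ pt.asIdeal; rw [h0]; exact zero_mem _)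
  · rw [← Category.assoc, ← Spec.map_comp]
    rw [show q ≫ CommRingCat.ofHom (Ideal.Quotient.lift N φ.hom hNφ) = φ from rfl, hφ, hl]

/-- An affine model of `f` over a domain near the generic point of the base. -/
structure Model {X Y : Scheme.{u}} (f : X ⟶ Y) where
  A : CommRingCat.{u}
  isDomain : IsDomain A
  u : Spec A ⟶ Y
  mono : Mono u
  near : ∀ a : A, a ≠ 0 → ∃ V : Y.Opens, (V : Set Y).Nonempty ∧ ∀ y ∈ V,
    ∃ ψ : A ⟶ Y.residueField y, ψ a ≠ 0 ∧ Spec.map ψ ≫ u = Y.fromSpecResidueField y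
  generic : ∀ η : Y, IsGenericPoint η Set.univ → ∃ ψ : A ⟶ Y.residueField η,
    Function.Injective ψ ∧ Spec.map ψ ≫ u = Y.fromSpecResidueField η
  n : ℕ
  B : Fin n → Type u
  [ring : ∀ i, CommRing (B i)]
  [alg : ∀ i, Algebra A (B i)]
  [ft : ∀ i, Algebra.FiniteType A (B i)]
  e : ∀ i, Spec (CommRingCat.of (B i)) ⟶ pullback f u
  isOpen : ∀ i, IsOpenImmersion (e i)
  covers : ∀ x : ↥(pullback f u), ∃ i, x ∈ Set.range (e i)
  w : ∀ i, e i ≫ pullback.snd f u = Spec.map (CommRingCat.ofHom (algebraMap A (B i)))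

attribute [instance] Model.isDomain Model.ring Model.alg Model.ft Model.isOpen

set_option backward.isDefEq.respectTransparency false in
theorem exists_model {X Y : Scheme.{u}} (f : X ⟶ Y) [IrreducibleSpace Y] [LocallyOfFiniteType f]
    [QuasiCompact f] : Nonempty (Model f) := by
  obtain ⟨A, hA, u, hu, hnear⟩ := exists_domain_chart Y
  let X' := pullback f u
  have : CompactSpace X' := QuasiCompact.compactSpace_of_compactSpace (pullback.snd f u)
  let 𝒰 := X'.affineCover.finiteSubcover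
  let W : 𝒰.I₀ → X'.Opens := fun i => (𝒰.f i).opensRange
  have hW : ∀ i, IsAffineOpen (W i) := fun i => isAffineOpen_opensRange _
  obtain ⟨n, ⟨e⟩⟩ := Finite.exists_equiv_fin 𝒰.I₀
  let g : ∀ i, Spec Γ(X', W i) ⟶ Spec A := fun i => (hW i).fromSpec ≫ pullback.snd f u
  let φ : ∀ i, A ⟶ Γ(X', W i) := fun i => Spec.preimage (g i)
  have hft : ∀ i, (φ i).hom.FiniteType := fun i => by
    rw [← HasRingHomProperty.Spec_iff (P := @LocallyOfFiniteType), Spec.map_preimage]
    infer_instance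
  refine ⟨{
    A := A
    isDomain := hA
    u := u
    mono := hu
    near := hnear
    generic := fun η hη => ?_
    n := n
    B := fun i => Γ(X', W (e.symm i))
    alg := fun i => (φ (e.symm i)).hom.toAlgebra
    ft := fun i => hft (e.symm i)
    e := fun i => (hW (e.symm i)).fromSpec
    isOpen := fun i => inferInstance
    covers := fun x => ⟨e (𝒰.idx x), ?_⟩
    w := fun i => (Spec.map_preimage _).symm }⟩
  · obtain ⟨V, hV, hψ⟩ := hnear 1 one_ne_zero
    have hmem : ∀ V : Y.Opens, (V : Set Y).Nonempty → η ∈ V := fun V hV =>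
      (hη.mem_open_set_iff V.2).2 (by simpa using hV)
    obtain ⟨ψ, -, hψe⟩ := hψ η (hmem V hV)
    refine ⟨ψ, (injective_iff_map_eq_zero ψ.hom).2 fun a ha => by_contra fun hne => ?_, hψe⟩
    obtain ⟨V', hV', hψ'⟩ := hnear a hne
    obtain ⟨ψ', hψ'a, hψ'e⟩ := hψ' η (hmem V' hV')
    rw [show ψ' = ψ from Spec.map_injective (by rwa [← cancel_mono u, hψe])] at hψ'a
    exact hψ'a ha
  · refine (Set.ext_iff.mp (hW _).range_fromSpec x).mpr ?_
    rw [Equiv.symm_apply_apply]
    exact 𝒰.covers x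

variable {X Y : Scheme.{u}} {f : X ⟶ Y} (M : Model f)

/-- The chart of a fibre given by a member of the model. -/
def Model.chart {L : CommRingCat.{u}} {ι : Spec L ⟶ Y} (ψ : M.A ⟶ L) (hψ : Spec.map ψ ≫ M.u = ι)
    (i : Fin M.n) : letI := ψ.hom.toAlgebra
    Spec (CommRingCat.of (L ⊗[M.A] M.B i)) ⟶ pullback f ι :=
  letI := ψ.hom.toAlgebra
  pullback.lift
    (Spec.map (CommRingCat.ofHom (Algebra.TensorProduct.includeRight : M.B i →ₐ[M.A] L ⊗[M.A] M.B i).toRingHom) ≫
      M.e i ≫ pullback.fst f M.u)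
    (Spec.map (CommRingCat.ofHom (S := L ⊗[M.A] M.B i) Algebra.TensorProduct.includeLeftRingHom))
    (by
      simp only [Category.assoc, pullback.condition]
      rw [reassoc_of% (M.w i), ← hψ, ← Category.assoc, ← Category.assoc, ← Spec.map_comp,
        ← Spec.map_comp]
      congr 2
      exact ((CommRingCat.isPushout_tensorProduct M.A L (M.B i)).w).symm)

set_option backward.isDefEq.respectTransparency false in
theorem Model.chart_spec {L : CommRingCat.{u}} {ι : Spec L ⟶ Y} (ψ : M.A ⟶ L)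
    (hψ : Spec.map ψ ≫ M.u = ι) :
    letI := ψ.hom.toAlgebra
    (∀ i, IsOpenImmersion (M.chart ψ hψ i)) ∧
      (∀ x : ↥(pullback f ι), ∃ i, x ∈ Set.range (M.chart ψ hψ i)) := by
  letI := ψ.hom.toAlgebra
  let π : pullback f ι ⟶ pullback f M.u :=
    pullback.lift (pullback.fst f ι) (pullback.snd f ι ≫ Spec.map ψ)
      (by rw [pullback.condition, Category.assoc, hψ])
  have h0 : IsPullback π (pullback.snd f ι) (pullback.snd f M.u) (Spec.map ψ) := by
    refine IsPullback.of_right ?_ (pullback.lift_snd _ _ _) (IsPullback.of_hasPullback f M.u)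
    rw [pullback.lift_fst, hψ]
    exact IsPullback.of_hasPullback f ι
  have h1 : ∀ i, IsPullback (Spec.map (CommRingCat.ofHom
      (Algebra.TensorProduct.includeRight : M.B i →ₐ[M.A] L ⊗[M.A] M.B i).toRingHom))
      (M.chart ψ hψ i) (M.e i) π := by
    intro i
    refine IsPullback.of_bot ?_ ?_ h0
    · rw [Model.chart, pullback.lift_snd, M.w i]
      exact (isPullback_SpecMap_of_isPushout _ _ _ _
        (CommRingCat.isPushout_tensorProduct M.A L (M.B i))).flip
    · apply pullback.hom_ext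
      · simp [π, Model.chart]
      · simp only [π, Category.assoc, pullback.lift_snd, Model.chart, pullback.lift_snd_assoc]
        rw [M.w i, ← Spec.map_comp, ← Spec.map_comp]
        congr 1
        exact ((CommRingCat.isPushout_tensorProduct M.A L (M.B i)).w).symm
  refine ⟨fun i => MorphismProperty.of_isPullback (P := @IsOpenImmersion) (h1 i) (M.isOpen i),
    fun x => ?_⟩
  obtain ⟨i, b, hb⟩ := M.covers (π x)
  obtain ⟨p, -, hp⟩ := Scheme.exists_preimage_of_isPullback (h1 i) b x hb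
  exact ⟨i, p, hp⟩

theorem Model.chart_fst {L : CommRingCat.{u}} {ι : Spec L ⟶ Y} (ψ : M.A ⟶ L)
    (hψ : Spec.map ψ ≫ M.u = ι) (i : Fin M.n) :
    letI := ψ.hom.toAlgebra
    M.chart ψ hψ i ≫ pullback.fst f ι =
      Spec.map (CommRingCat.ofHom (Algebra.TensorProduct.includeRight : M.B i →ₐ[M.A] L ⊗[M.A] M.B i).toRingHom) ≫
        M.e i ≫ pullback.fst f M.u :=
  pullback.lift_fst _ _ _

end Groth.Agent.H56.NearGeneric
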