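import Groth.Agent.H56.NearGeneric.Loci
import Groth.Agent.Lib.FibreDim.Global
import Mathlib.Topology.NoetherianSpace

/-!
# Components and dimensions of the fibres near the generic point
-/

set_option autoImplicit false
noncomputable section

universe u

open CategoryTheory CategoryTheory.Limits AlgebraicGeometry TopologicalSpace

namespace Groth.Agent.H56.NearGeneric

variable {X Y : Scheme.{u}} {f : X ⟶ Y}

theorem exists_forall_of_finite [IrreducibleSpace Y] {ι : Type*} [Finite ι] (P : ι → Y → Prop)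
    (h : ∀ i, ∃ V : Y.Opens, (V : Set Y).Nonempty ∧ ∀ y ∈ V, P i y) :
    ∃ V : Y.Opens, (V : Set Y).Nonempty ∧ ∀ y ∈ V, ∀ i, P i y := by
  choose V hV hP using h
  refine ⟨⟨⋂ i, (V i : Set Y), isOpen_iInter_of_finite fun i => (V i).isOpen⟩,
    ⟨genericPoint Y, Set.mem_iInter.2 fun i => ((genericPoint_spec Y).mem_open_set_iff (V i).isOpen).2
      (by simpa using hV i)⟩, fun y hy i => hP i y (Set.mem_iInter.1 hy i)⟩

theorem le_encard_irreducibleComponents {F : Type*} [TopologicalSpace F] {n : ℕ} (O : Fin n → Set F)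
    (ho : ∀ i, IsOpen (O i)) (hne : ∀ i, (O i).Nonempty) (hd : Pairwise (Function.onFun Disjoint O)) :
    (n : ℕ∞) ≤ (irreducibleComponents F).encard := by
  choose x hx using hne
  let c : Fin n → Set F := fun i => irreducibleComponent (x i)
  have hc : Function.Injective c := by
    intro i j hij
    by_contra hne
    obtain ⟨z, -, hz⟩ := (isIrreducible_irreducibleComponent (x := x i)).2 (O i) (O j) (ho i) (ho j)
      ⟨x i, mem_irreducibleComponent, hx i⟩
      ⟨x j, (show irreducibleComponent (x i) = irreducibleComponent (x j) from hij) ▸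
        mem_irreducibleComponent, hx j⟩
    exact Set.disjoint_left.1 (hd hne) hz.1 hz.2
  calc (n : ℕ∞) = (Set.range c).encard := by simp [← Set.image_univ, hc.encard_image]
    _ ≤ _ := Set.encard_le_encard (Set.range_subset_iff.2 fun i =>
        irreducibleComponent_mem_irreducibleComponents _)

theorem le_card_connectedComponents {F : Type*} [TopologicalSpace F] {n : ℕ} (O : Fin n → Set F)
    (ho : ∀ i, IsClopen (O i)) (hne : ∀ i, (O i).Nonempty)
    (hd : Pairwise (Function.onFun Disjoint O)) :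
    (n : ℕ∞) ≤ ENat.card (_root_.ConnectedComponents F) := by
  choose x hx using hne
  have hinj : Function.Injective fun i => (x i : _root_.ConnectedComponents F) := by
    intro i j hij
    by_contra hne
    have h1 : x j ∈ connectedComponent (x i) := by
      rw [ConnectedComponents.coe_eq_coe.1 hij]; exact mem_connectedComponent
    exact Set.disjoint_left.1 (hd hne) ((ho i).connectedComponent_subset (hx i) h1) (hx j)
  simpa using ENat.card_le_card_of_injective hinj

theorem fibre_dim_eq [IrreducibleSpace Y] [LocallyOfFiniteType f] [QuasiCompact f] (n : ℕ)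
    (η : Y) (hη : IsGenericPoint η Set.univ) (h : topologicalKrullDim ↑(f.fiber η) = n) :
    ∃ V : Y.Opens, (V : Set Y).Nonempty ∧ ∀ y ∈ V, topologicalKrullDim ↑(f.fiber y) = n := by
  let T : ℕ → Set X := fun m => {x | (m : WithBot ℕ∞) ≤ FlatMor.fibreDimAt f x}
  have hT : ∀ m, IsClosed (T m) := Lib.FibreDim.Global.isClosed_setOf_le_fibreDimAt f
  have key : ∀ (m : ℕ) (y : Y), (m : WithBot ℕ∞) ≤ topologicalKrullDim ↑(f.fiber y) ↔
      ((f.fiberι y) ⁻¹' T m).Nonempty := by
    intro m y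
    rw [Lib.FibreDim.Global.le_topologicalKrullDim_fiber_iff]
    constructor
    · rintro ⟨x, hx, hm⟩
      obtain ⟨z, hz⟩ : x ∈ Set.range (f.fiberι y) := by
        rw [Scheme.Hom.range_fiberι]; exact hx
      exact ⟨z, show f.fiberι y z ∈ T m from hz ▸ hm⟩
    · rintro ⟨z, hz⟩
      exact ⟨_, (Scheme.Hom.range_fiberι f y).subset ⟨z, rfl⟩, hz⟩
  obtain ⟨V₁, hV₁, h₁⟩ := exists_fibre_meets (T n) (hT n) η hη ((key n η).1 h.ge)
  obtain ⟨V₂, hV₂, h₂⟩ := exists_fibre_disjoint (T (n + 1)) (hT (n + 1)) η hη (by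
    rw [← Set.not_nonempty_iff_eq_empty, ← key, h]
    intro hle
    have : n + 1 ≤ n := by exact_mod_cast hle
    omega)
  refine ⟨V₁ ⊓ V₂, ⟨η, (hη.mem_open_set_iff V₁.isOpen).2 (by simpa using hV₁),
    (hη.mem_open_set_iff V₂.isOpen).2 (by simpa using hV₂)⟩, fun y hy => ?_⟩
  have hlo := (key n y).2 (h₁ y hy.1)
  have hhi : ¬ ((n + 1 : ℕ) : WithBot ℕ∞) ≤ topologicalKrullDim ↑(f.fiber y) := fun hc =>
    Set.not_nonempty_iff_eq_empty.2 (h₂ y hy.2) ((key (n + 1) y).1 hc)
  generalize topologicalKrullDim ↑(f.fiber y) = d at hlo hhi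
  induction d using WithBot.recBotCoe with
  | bot => exact absurd hlo (by simp)
  | coe a =>
    induction a using ENat.recTopCoe with
    | top => exact absurd le_top hhi
    | coe b =>
      have hb : ¬ (n + 1 ≤ b) := fun h => hhi (by exact_mod_cast h)
      have hnb : n ≤ b := by exact_mod_cast hlo
      exact_mod_cast (by omega : b = n)

theorem le_irreducibleComponents [IrreducibleSpace Y] [LocallyOfFiniteType f] [QuasiCompact f]
    (n : ℕ) (η : Y) (hη : IsGenericPoint η Set.univ)
    (h : (irreducibleComponents ↑(f.fiber η)).encard = n) :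
    ∃ V : Y.Opens, (V : Set Y).Nonempty ∧
      ∀ y ∈ V, (n : ℕ∞) ≤ (irreducibleComponents ↑(f.fiber y)).encard := by
  classical
  have hfin := Set.finite_of_encard_eq_coe h
  have := hfin.fintype
  have hcard : Fintype.card (irreducibleComponents ↑(f.fiber η)) = n := by
    rw [← Nat.card_eq_fintype_card, Nat.card_coe_set_eq, Set.ncard_def, h, ENat.toNat_natCast]
  let C : Fin n → Set (f.fiber η) := fun i => ((Fintype.equivFinOfCardEq hcard).symm i).1
  have hC : ∀ i, C i ∈ irreducibleComponents ↑(f.fiber η) := fun i =>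
    ((Fintype.equivFinOfCardEq hcard).symm i).2
  have hCinj : Function.Injective C := fun i j hij =>
    (Fintype.equivFinOfCardEq hcard).symm.injective (Subtype.ext hij)
  let O : Fin n → Set (f.fiber η) := fun i => (⋃ j ∈ {j | j ≠ i}, C j)ᶜ
  have hO : ∀ i, IsOpen (O i) := fun i =>
    (((Set.toFinite _).isClosed_biUnion fun j _ => isClosed_of_mem_irreducibleComponents _ (hC j))).isOpen_compl
  have hne : ∀ i, (O i).Nonempty := by
    intro i
    by_contra hc
    rw [Set.not_nonempty_iff_eq_empty, Set.compl_empty_iff] at hc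
    have hsub : C i ⊆ ⋃ j ∈ {j | j ≠ i}, C j := hc ▸ Set.subset_univ _
    obtain ⟨t, ht, hit⟩ := isIrreducible_iff_sUnion_isClosed.1 (hC i).1
      (((Set.toFinite {j | j ≠ i}).image C).toFinset)
      (fun z hz => by
        obtain ⟨j, -, rfl⟩ := (Set.Finite.mem_toFinset _).1 hz
        exact isClosed_of_mem_irreducibleComponents _ (hC j))
      (by rwa [Set.Finite.coe_toFinset, Set.sUnion_image])
    obtain ⟨j, hj, rfl⟩ := (Set.Finite.mem_toFinset _).1 ht
    have hij := hit
    exact hj (hCinj (Set.Subset.antisymm ((hC i).2 (hC j).1 hij) hij))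
  have hd : ∀ i j, i ≠ j → O i ∩ O j = ∅ := by
    intro i j hij
    refine Set.eq_empty_of_forall_notMem fun x ⟨hi, hj⟩ => ?_
    obtain ⟨k, hk⟩ : ∃ k, x ∈ C k := by
      obtain ⟨k, hk⟩ := (Fintype.equivFinOfCardEq hcard).symm.surjective
        ⟨_, irreducibleComponent_mem_irreducibleComponents x⟩
      exact ⟨k, by rw [show C k = irreducibleComponent x from congrArg Subtype.val hk]; exact mem_irreducibleComponent⟩
    by_cases hki : k = i
    · exact hj (Set.mem_iUnion₂.2 ⟨k, (by rw [hki]; exact hij : k ≠ j), hk⟩)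
    · exact hi (Set.mem_iUnion₂.2 ⟨k, hki, hk⟩)
  choose U hU hUO using fun i => (f.fiberι η).isEmbedding.isInducing.isOpen_iff.1 (hO i)
  obtain ⟨V₁, hV₁, h₁⟩ := exists_forall_of_finite (fun i y => ((f.fiberι y) ⁻¹' U i).Nonempty)
    fun i => exists_fibre_meets_open (U i) (hU i) η hη (by rw [hUO]; exact hne i)
  obtain ⟨V₂, hV₂, h₂⟩ := exists_forall_of_finite
    (fun (p : {p : Fin n × Fin n // p.1 ≠ p.2}) y =>
      (f.fiberι y) ⁻¹' (U p.1.1 ∩ U p.1.2)ᶜ = Set.univ)
    fun p => exists_fibre_subset _ ((hU _).inter (hU _)).isClosed_compl η hη (by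
      rw [Set.preimage_compl, Set.preimage_inter, hUO, hUO, hd _ _ p.2, Set.compl_empty])
  refine ⟨V₁ ⊓ V₂, ⟨η, (hη.mem_open_set_iff V₁.isOpen).2 (by simpa using hV₁),
    (hη.mem_open_set_iff V₂.isOpen).2 (by simpa using hV₂)⟩, fun y hy => ?_⟩
  refine le_encard_irreducibleComponents (fun i => (f.fiberι y) ⁻¹' U i)
    (fun i => (hU i).preimage (f.fiberι y).continuous) (h₁ y hy.1)
    fun i j hij => Set.disjoint_left.2 fun x hi hj => ?_
  exact ((h₂ y hy.2 ⟨(i, j), hij⟩).superset (Set.mem_univ x)) ⟨hi, hj⟩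

theorem le_connectedComponents [IrreducibleSpace Y] [LocallyOfFiniteType f] [QuasiCompact f]
    (n : ℕ) (η : Y) (hη : IsGenericPoint η Set.univ)
    (h : ENat.card (_root_.ConnectedComponents ↑(f.fiber η)) = n) :
    ∃ V : Y.Opens, (V : Set Y).Nonempty ∧
      ∀ y ∈ V, (n : ℕ∞) ≤ ENat.card (_root_.ConnectedComponents ↑(f.fiber y)) := by
  classical
  have : Finite (_root_.ConnectedComponents ↑(f.fiber η)) := ENat.card_lt_top.1 (by
    rw [h]; exact ENat.coe_lt_top n)
  obtain ⟨m, ⟨e⟩⟩ := Finite.exists_equiv_fin (_root_.ConnectedComponents ↑(f.fiber η))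
  have hmn : m = n := by
    rw [ENat.card_congr e, ENat.card_eq_coe_natCard, Nat.card_fin] at h
    exact_mod_cast h
  subst hmn
  let C : Fin m → Set (f.fiber η) := fun i => ConnectedComponents.mk ⁻¹' {e.symm i}
  have hC : ∀ i, IsClosed (C i) := fun i => by
    obtain ⟨x, hx⟩ := ConnectedComponents.surjective_coe (e.symm i)
    have : C i = connectedComponent x := by
      show ConnectedComponents.mk ⁻¹' {e.symm i} = _
      rw [← hx]; exact connectedComponents_preimage_singleton
    rw [this]; exact isClosed_connectedComponent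
  choose T hT hTC using fun i => (f.fiberι η).isEmbedding.isInducing.isClosed_iff.1 (hC i)
  obtain ⟨V₁, hV₁, h₁⟩ := exists_forall_of_finite (fun i y => ((f.fiberι y) ⁻¹' T i).Nonempty)
    fun i => exists_fibre_meets (T i) (hT i) η hη (by
      rw [hTC]
      obtain ⟨x, hx⟩ := ConnectedComponents.surjective_coe (e.symm i)
      exact ⟨x, hx⟩)
  obtain ⟨V₂, hV₂, h₂⟩ := exists_forall_of_finite
    (fun (p : {p : Fin m × Fin m // p.1 ≠ p.2}) y => (f.fiberι y) ⁻¹' (T p.1.1 ∩ T p.1.2) = ∅)
    fun p => exists_fibre_disjoint _ ((hT _).inter (hT _)) η hη (by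
      rw [Set.preimage_inter, hTC, hTC]
      refine Set.eq_empty_of_forall_notMem fun x ⟨h1, h2⟩ => p.2 ?_
      exact e.symm.injective ((Set.mem_singleton_iff.1 h1).symm.trans (Set.mem_singleton_iff.1 h2)))
  obtain ⟨V₃, hV₃, h₃⟩ := exists_fibre_subset (f := f) (⋃ i, T i) (isClosed_iUnion_of_finite hT) η hη (by
    rw [Set.preimage_iUnion]
    simp only [hTC]
    refine Set.eq_univ_of_forall fun x => Set.mem_iUnion.2 ⟨e (ConnectedComponents.mk x), ?_⟩
    show ConnectedComponents.mk x = e.symm (e _)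
    rw [Equiv.symm_apply_apply])
  refine ⟨V₁ ⊓ V₂ ⊓ V₃, ⟨η, ⟨(hη.mem_open_set_iff V₁.isOpen).2 (by simpa using hV₁),
    (hη.mem_open_set_iff V₂.isOpen).2 (by simpa using hV₂)⟩,
    (hη.mem_open_set_iff V₃.isOpen).2 (by simpa using hV₃)⟩, fun y hy => ?_⟩
  let D : Fin m → Set (f.fiber y) := fun i => (f.fiberι y) ⁻¹' T i
  have hd : ∀ i j, i ≠ j → ∀ x, x ∈ D i → x ∉ D j := fun i j hij x hi hj =>
    (Set.eq_empty_iff_forall_notMem.1 (h₂ y hy.1.2 ⟨(i, j), hij⟩)) x ⟨hi, hj⟩
  have hcl : ∀ i, IsClosed (D i) := fun i => (hT i).preimage (f.fiberι y).continuous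
  refine le_card_connectedComponents D (fun i => ⟨hcl i, ?_⟩) (h₁ y hy.1.1)
    fun i j hij => Set.disjoint_left.2 (hd i j hij)
  have : D i = (⋃ j ∈ {j | j ≠ i}, D j)ᶜ := by
    ext x
    simp only [Set.mem_compl_iff, Set.mem_iUnion, not_exists]
    refine ⟨fun hx j hj => hd i j (Ne.symm hj) x hx, fun hx => ?_⟩
    obtain ⟨j, hj⟩ := Set.mem_iUnion.1 ((h₃ y hy.2).superset (Set.mem_univ x))
    by_cases hji : j = i
    · exact hji ▸ hj
    · exact absurd hj (hx j hji)
  rw [this]
  exact ((Set.toFinite _).isClosed_biUnion fun j _ => hcl j).isOpen_compl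

end Groth.Agent.H56.NearGeneric
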