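import Groth.Agent.H56.NearGeneric.Use
import Mathlib.Algebra.Category.Ring.Epi
import Mathlib.LinearAlgebra.Dual.Lemmas
import Mathlib.AlgebraicGeometry.Geometrically.Reduced
import Mathlib.RingTheory.Adjoin.FG

/-!
# Non-reduced fibres near the generic point
-/

set_option autoImplicit false
set_option linter.style.haveILetI false
noncomputable section

universe u

open CategoryTheory CategoryTheory.Limits AlgebraicGeometry TopologicalSpace TensorProduct

namespace Groth.Agent.H56.NearGeneric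

theorem surjective_of_isEpi {F K : Type u} [Field F] [Field K] [Algebra F K] (h : Algebra.IsEpi F K) :
    Function.Surjective (algebraMap F K) := by
  intro k
  by_contra hk
  have hk' : k ∉ (Submodule.span F {(1 : K)}) := by
    intro hk'
    obtain ⟨c, hc⟩ := Submodule.mem_span_singleton.1 hk'
    exact hk ⟨c, by rw [← hc, Algebra.smul_def, mul_one]⟩
  obtain ⟨φ, hφk, hφ1⟩ := Submodule.exists_dual_map_eq_bot_of_notMem hk' inferInstance
  have h1 : φ 1 = 0 := by
    have : φ 1 ∈ (Submodule.span F {(1 : K)}).map φ :=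
      Submodule.mem_map_of_mem (Submodule.mem_span_singleton_self _)
    rwa [hφ1, Submodule.mem_bot] at this
  have := congrArg (fun z => TensorProduct.lid F K (φ.rTensor K z))
    ((Algebra.isEpi_iff_forall_one_tmul_eq F K).1 h k)
  simp only [LinearMap.rTensor_tmul, TensorProduct.lid_tmul, h1, zero_smul] at this
  exact hφk ((smul_eq_zero.1 this.symm).resolve_right one_ne_zero)

variable {X Y : Scheme.{u}} {f : X ⟶ Y}

theorem exists_smul_eq_of_epi {A : Type u} [CommRing A] [IsDomain A] {K : Type u} [Field K]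
    [Algebra A K] (hinj : Function.Injective (algebraMap A K))
    (hepi : Epi (CommRingCat.ofHom (algebraMap A K))) {C : Type u} [CommRing C] [Algebra A C]
    (z : K ⊗[A] C) : ∃ c : A, c ≠ 0 ∧ ∃ x : C, c • z = 1 ⊗ₜ x := by
  let F := FractionRing A
  let e : F →+* K := IsFractionRing.lift hinj
  have he : CommRingCat.ofHom (algebraMap A K) =
      CommRingCat.ofHom (algebraMap A F) ≫ CommRingCat.ofHom e := by
    ext a
    exact (IsFractionRing.lift_algebraMap hinj a).symm
  have hepi' : Epi (CommRingCat.ofHom e) := by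
    rw [he] at hepi
    exact epi_of_epi (CommRingCat.ofHom (algebraMap A F)) _
  let _ : Algebra F K := e.toAlgebra
  have hsurj := surjective_of_isEpi (F := F) (K := K) (CommRingCat.epi_iff_epi.1 hepi')
  induction z using TensorProduct.induction_on with
  | zero => exact ⟨1, one_ne_zero, 0, by simp⟩
  | tmul k x =>
    obtain ⟨q, rfl⟩ := hsurj k
    obtain ⟨a, c, hc, rfl⟩ := IsFractionRing.div_surjective A q
    refine ⟨c, nonZeroDivisors.ne_zero hc, a • x, ?_⟩
    rw [TensorProduct.smul_tmul', ← TensorProduct.smul_tmul, Algebra.smul_def, Algebra.smul_def,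
      mul_one]
    congr 1
    show algebraMap A K c * e (algebraMap A F a / algebraMap A F c) = algebraMap A K a
    rw [map_div₀, IsFractionRing.lift_algebraMap, IsFractionRing.lift_algebraMap, mul_div_cancel₀]
    exact fun h0 => nonZeroDivisors.ne_zero hc (hinj (h0.trans (map_zero _).symm))
  | add p q hp hq =>
    obtain ⟨c, hc, x, hx⟩ := hp
    obtain ⟨d, hd, y, hy⟩ := hq
    refine ⟨c * d, mul_ne_zero hc hd, d • x + c • y, ?_⟩
    rw [smul_add, TensorProduct.tmul_add, TensorProduct.tmul_smul, TensorProduct.tmul_smul, ← hx, ← hy,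
      smul_smul, smul_smul, mul_comm d c]

theorem isFractionRing_of_epi {A : Type u} [CommRing A] [IsDomain A] {K : Type u} [Field K]
    [Algebra A K] (hinj : Function.Injective (algebraMap A K))
    (hepi : Epi (CommRingCat.ofHom (algebraMap A K))) : IsFractionRing A K := by
  let F := FractionRing A
  let e : F →+* K := IsFractionRing.lift hinj
  have he : CommRingCat.ofHom (algebraMap A K) =
      CommRingCat.ofHom (algebraMap A F) ≫ CommRingCat.ofHom e := by
    ext a
    exact (IsFractionRing.lift_algebraMap hinj a).symm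
  have hepi' : Epi (CommRingCat.ofHom e) := by
    rw [he] at hepi
    exact epi_of_epi (CommRingCat.ofHom (algebraMap A F)) _
  let _ : Algebra F K := e.toAlgebra
  have hsurj := surjective_of_isEpi (F := F) (K := K) (CommRingCat.epi_iff_epi.1 hepi')
  have : IsScalarTower A F K :=
    IsScalarTower.of_algebraMap_eq fun r => (IsFractionRing.lift_algebraMap hinj r).symm
  exact IsLocalization.isLocalization_of_algEquiv (nonZeroDivisors A)
    (AlgEquiv.ofBijective (IsScalarTower.toAlgHom A F K) ⟨e.injective, hsurj⟩)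

theorem Model.isFractionRing (M : Model f) {η : Y} (ψ : M.A ⟶ Y.residueField η)
    (hψ : Function.Injective ψ) (hψe : Spec.map ψ ≫ M.u = Y.fromSpecResidueField η) :
    letI := ψ.hom.toAlgebra
    IsFractionRing M.A (Y.residueField η) := by
  have hm : Mono (Spec.map ψ) := by
    have : Mono (Spec.map ψ ≫ M.u) := by rw [hψe]; infer_instance
    exact mono_of_mono (Spec.map ψ) M.u
  have hepi : Epi ψ := ⟨fun g h e => Spec.map_injective (by
    rw [← cancel_mono (Spec.map ψ), ← Spec.map_comp, ← Spec.map_comp, e])⟩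
  letI := ψ.hom.toAlgebra
  exact isFractionRing_of_epi hψ hepi

/-- Clearing denominators in the generic fibre. -/
theorem Model.exists_smul_eq (M : Model f) {η : Y} (ψ : M.A ⟶ Y.residueField η)
    (hψ : Function.Injective ψ) (hψe : Spec.map ψ ≫ M.u = Y.fromSpecResidueField η)
    {C : Type u} [CommRing C] [Algebra M.A C] :
    letI := ψ.hom.toAlgebra
    ∀ z : Y.residueField η ⊗[M.A] C, ∃ c : M.A, c ≠ 0 ∧ ∃ x : C, c • z = 1 ⊗ₜ x := by
  have hm : Mono (Spec.map ψ) := by
    have : Mono (Spec.map ψ ≫ M.u) := by rw [hψe]; infer_instance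
    exact mono_of_mono (Spec.map ψ) M.u
  have hepi : Epi ψ := ⟨fun g h e => Spec.map_injective (by
    rw [← cancel_mono (Spec.map ψ), ← Spec.map_comp, ← Spec.map_comp, e])⟩
  letI := ψ.hom.toAlgebra
  exact exists_smul_eq_of_epi hψ hepi

theorem not_isReduced_of_isOpenImmersion {C : Type u} [CommRing C] {F : Scheme.{u}}
    (c : Spec (CommRingCat.of C) ⟶ F) [IsOpenImmersion c] (h : ¬ _root_.IsReduced C) :
    ¬ IsReduced F := by
  intro hF
  have := isReduced_of_isOpenImmersion c
  exact h ((affine_isReduced_iff _).1 this)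

set_option backward.isDefEq.respectTransparency false in
theorem exists_not_isReduced_chart (M : Model f) {L : CommRingCat.{u}} {ι : Spec L ⟶ Y}
    (ψ : M.A ⟶ L) (hψ : Spec.map ψ ≫ M.u = ι) (h : ¬ IsReduced (pullback f ι)) :
    letI := ψ.hom.toAlgebra
    ∃ i, ¬ _root_.IsReduced (L ⊗[M.A] M.B i) := by
  letI := ψ.hom.toAlgebra
  by_contra hcon
  push Not at hcon
  obtain ⟨hopen, hcov⟩ := M.chart_spec ψ hψ
  let 𝒰 : (pullback f ι).OpenCover :=
    Scheme.Cover.mkOfCovers (Fin M.n) (fun i => Spec (CommRingCat.of (L ⊗[M.A] M.B i)))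
      (fun i => M.chart ψ hψ i) hcov hopen
  have : ∀ i, IsReduced (𝒰.X i) := fun i => (affine_isReduced_iff _).2 (hcon i)
  exact h (IsReduced.of_openCover (𝒰 := 𝒰))

set_option backward.isDefEq.respectTransparency false in
theorem exists_not_isReduced [IrreducibleSpace Y] [LocallyOfFiniteType f] [QuasiCompact f]
    (η : Y) (hη : IsGenericPoint η Set.univ) (h : ¬ IsReduced (f.fiber η)) :
    ∃ V : Y.Opens, (V : Set Y).Nonempty ∧ ∀ y ∈ V, ¬ IsReduced (f.fiber y) := by
  obtain ⟨M⟩ := exists_model f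
  obtain ⟨ψη, hinj, hψη⟩ := M.generic η hη
  letI := ψη.hom.toAlgebra
  let K := Y.residueField η
  obtain ⟨i, hi⟩ := exists_not_isReduced_chart M ψη hψη h
  obtain ⟨z, hz, hz0⟩ : ∃ z : K ⊗[M.A] M.B i, IsNilpotent z ∧ z ≠ 0 := by
    by_contra hcon
    push Not at hcon
    exact hi ⟨hcon⟩
  obtain ⟨c, hc, x, hx⟩ := M.exists_smul_eq ψη hinj hψη z
  have hx0 : (1 : K) ⊗ₜ[M.A] x ≠ 0 := by
    rw [← hx, ← algebraMap_smul K c]
    intro h0
    exact hz0 ((smul_eq_zero.1 h0).resolve_left fun e => hc (hinj (e.trans (map_zero _).symm)))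
  obtain ⟨m, hm⟩ := hz
  have hxm : (1 : K) ⊗ₜ[M.A] (x ^ m) = 0 := by
    rw [← one_pow (M := K) m, ← Algebra.TensorProduct.tmul_pow, ← hx, smul_pow, hm, smul_zero]
  obtain ⟨a₁, ha₁, h₁⟩ := exists_tmul_ne_zero (B := M.B i) K hinj hx0
  obtain ⟨a₂, ha₂, h₂⟩ := exists_killed (B := M.B i) K (M.B i) hinj
  obtain ⟨V, hV, hψ⟩ := M.near (a₁ * a₂) (mul_ne_zero ha₁ ha₂)
  refine ⟨V, hV, fun y hy => ?_⟩
  obtain ⟨ψ, hψa, hψe⟩ := hψ y hy
  letI := ψ.hom.toAlgebra
  rw [map_mul, mul_ne_zero_iff] at hψa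
  have := (M.chart_spec ψ hψe).1 i
  refine not_isReduced_of_isOpenImmersion (M.chart ψ hψe i) fun hred => h₁ _ hψa.1 ?_
  refine hred.eq_zero _ ⟨m, ?_⟩
  rw [Algebra.TensorProduct.tmul_pow, one_pow]
  exact h₂ _ hψa.2 _ hxm

/-- A finitely generated model of a nilpotent element of a base change to a field. -/
theorem exists_model_of_nilpotent {A B : Type u} [CommRing A] [CommRing B] [Algebra A B]
    (K : Type u) [Field K] [Algebra A K] (h : ¬ _root_.IsReduced (K ⊗[A] B)) :
    ∃ (A' : Type u) (_ : CommRing A') (_ : IsDomain A') (_ : Algebra A A')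
      (_ : Algebra.FiniteType A A') (_ : Algebra A' K) (_ : IsScalarTower A A' K)
      (x : A' ⊗[A] B) (m : ℕ), Function.Injective (algebraMap A' K) ∧
      (1 : K) ⊗ₜ[A'] x ≠ 0 ∧ (1 : K) ⊗ₜ[A'] (x ^ m) = 0 := by
  classical
  obtain ⟨z, hz, hz0⟩ : ∃ z : K ⊗[A] B, IsNilpotent z ∧ z ≠ 0 := by
    by_contra hcon
    push Not at hcon
    exact h ⟨hcon⟩
  obtain ⟨S, hS⟩ := TensorProduct.exists_finset z
  let A' := Algebra.adjoin A (↑(S.image Prod.fst) : Set K)
  have : Algebra.FiniteType A A' := (Subalgebra.fg_iff_finiteType _).1 (Subalgebra.fg_adjoin_finset _)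
  let x : A' ⊗[A] B := ∑ p ∈ S.attach, ⟨p.1.1, Algebra.subset_adjoin (Finset.mem_image_of_mem _ p.2)⟩ ⊗ₜ p.1.2
  let e := Algebra.TensorProduct.cancelBaseChange A A' A' K B
  have hex : e (1 ⊗ₜ x) = z := by
    rw [hS, TensorProduct.tmul_sum, map_sum, ← Finset.sum_attach S]
    refine Finset.sum_congr rfl fun p _ => ?_
    simp [e, Algebra.smul_def]
  obtain ⟨m, hm⟩ := hz
  refine ⟨A', inferInstance, inferInstance, inferInstance, inferInstance, inferInstance, inferInstance,
    x, m, Subtype.val_injective, fun h0 => hz0 (by rw [← hex, h0, map_zero]), ?_⟩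
  apply e.injective
  rw [map_zero, ← hm, ← hex, ← map_pow, Algebra.TensorProduct.tmul_pow, one_pow]

theorem exists_field_point {A : Type u} [CommRing A] [IsDomain A] (C : Type u) [CommRing C]
    [Algebra A C] [Algebra.FiniteType A C] (K : Type u) [Field K] [Algebra A K]
    (hK : Function.Injective (algebraMap A K)) (g : C →ₐ[A] K) :
    ∃ a : A, a ≠ 0 ∧ ∀ (L : Type u) [Field L] [Algebra A L], algebraMap A L a ≠ 0 →
      ∃ (L' : Type u) (_ : Field L') (_ : Algebra A L') (_ : Algebra L L'),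
        IsScalarTower A L L' ∧ Nonempty (C →ₐ[A] L') := by
  have : Nontrivial (K ⊗[A] C) :=
    (Algebra.TensorProduct.lift (AlgHom.id A K) g fun _ _ => .all _ _).toRingHom.domain_nontrivial
  obtain ⟨a, ha, hL⟩ := exists_nontrivial (A := A) (B := C) K C hK
  refine ⟨a, ha, fun L _ _ hLa => ?_⟩
  have := hL L hLa
  obtain ⟨𝔪, h𝔪⟩ := Ideal.exists_maximal (L ⊗[A] C)
  exact ⟨(L ⊗[A] C) ⧸ 𝔪, Ideal.Quotient.field 𝔪, inferInstance, inferInstance, inferInstance,
    ⟨(Ideal.Quotient.mkₐ A 𝔪).comp Algebra.TensorProduct.includeRight⟩⟩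

theorem not_isReduced_baseChange {A A' B : Type u} [CommRing A] [CommRing A'] [Algebra A A']
    [CommRing B] [Algebra A B] {L' : Type u} [Field L'] [Algebra A L'] [Algebra A' L']
    [IsScalarTower A A' L'] {x : A' ⊗[A] B} {m : ℕ} (hx : (1 : L') ⊗ₜ[A'] x ≠ 0)
    (hm : (1 : L') ⊗ₜ[A'] (x ^ m) = 0) : ¬ _root_.IsReduced (L' ⊗[A] B) := by
  intro hred
  let e := Algebra.TensorProduct.cancelBaseChange A A' A' L' B
  refine hx (e.injective ?_)
  rw [map_zero]
  refine hred.eq_zero _ ⟨m, ?_⟩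
  rw [← map_pow, Algebra.TensorProduct.tmul_pow, one_pow, hm, map_zero]

/-- Geometric non-reducedness spreads out. -/
theorem exists_geom_not_isReduced_alg {A : Type u} [CommRing A] [IsDomain A] {B : Type u}
    [CommRing B] [Algebra A B] [Algebra.FiniteType A B] (K : Type u) [Field K] [Algebra A K]
    (hK : Function.Injective (algebraMap A K)) (h : ¬ _root_.IsReduced (K ⊗[A] B)) :
    ∃ a : A, a ≠ 0 ∧ ∀ (L : Type u) [Field L] [Algebra A L], algebraMap A L a ≠ 0 →
      ∃ (L' : Type u) (_ : Field L') (_ : Algebra A L') (_ : Algebra L L'), IsScalarTower A L L' ∧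
        ¬ _root_.IsReduced (L' ⊗[A] B) := by
  obtain ⟨A', _, _, _, _, _, _, x, m, hK', hx0, hxm⟩ := exists_model_of_nilpotent K h
  obtain ⟨a₁, ha₁, h₁⟩ := exists_tmul_ne_zero (A := A') (B := A' ⊗[A] B) K hK' hx0
  obtain ⟨a₂, ha₂, h₂⟩ := exists_killed (A := A') (B := A' ⊗[A] B) K (A' ⊗[A] B) hK'
  have : Algebra.FiniteType A (Localization.Away (a₁ * a₂)) :=
    Algebra.FiniteType.trans (S := A') inferInstance
      (IsLocalization.finiteType_of_monoid_fg (Submonoid.powers (a₁ * a₂)) _)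
  let g : Localization.Away (a₁ * a₂) →ₐ[A] K := IsLocalization.liftAlgHom
    (M := Submonoid.powers (a₁ * a₂)) (f := IsScalarTower.toAlgHom A A' K) fun y => by
      obtain ⟨n, hn⟩ := y.2
      rw [← hn, map_pow]
      exact (isUnit_iff_ne_zero.2 fun h0 => mul_ne_zero ha₁ ha₂ (hK' (h0.trans (map_zero _).symm))).pow n
  obtain ⟨a, ha, hL⟩ := exists_field_point (Localization.Away (a₁ * a₂)) K hK g
  refine ⟨a, ha, fun L _ _ hLa => ?_⟩
  obtain ⟨L', fL, aL, aLL, htower, ⟨ρ⟩⟩ := hL L hLa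
  refine ⟨L', fL, aL, aLL, htower, ?_⟩
  let ρ' : A' →ₐ[A] L' := ρ.comp (IsScalarTower.toAlgHom A A' (Localization.Away (a₁ * a₂)))
  letI : Algebra A' L' := ρ'.toRingHom.toAlgebra
  have : IsScalarTower A A' L' := IsScalarTower.of_algebraMap_eq fun r => (ρ'.commutes r).symm
  have hu : IsUnit (algebraMap A' L' (a₁ * a₂)) :=
    (IsLocalization.Away.algebraMap_isUnit (S := Localization.Away (a₁ * a₂)) (a₁ * a₂)).map ρ
  rw [map_mul, IsUnit.mul_iff] at hu
  exact not_isReduced_baseChange (h₁ L' hu.1.ne_zero) (h₂ L' hu.2.ne_zero _ hxm)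

set_option backward.isDefEq.respectTransparency false in
theorem exists_not_geometricallyReduced [IrreducibleSpace Y] [LocallyOfFiniteType f]
    [QuasiCompact f] (η : Y) (hη : IsGenericPoint η Set.univ)
    (h : ¬ GeometricallyReduced (f.fiberToSpecResidueField η)) :
    ∃ V : Y.Opens, (V : Set Y).Nonempty ∧
      ∀ y ∈ V, ¬ GeometricallyReduced (f.fiberToSpecResidueField y) := by
  obtain ⟨M⟩ := exists_model f
  obtain ⟨ψη, hinj, hψη⟩ := M.generic η hη
  rw [geometricallyReduced_iff] at h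
  simp only [geometrically, not_forall] at h
  obtain ⟨K', _, yK, Z, fst, snd, hsq, hZ⟩ := h
  obtain ⟨χ, rfl⟩ := Spec.map_surjective yK
  have hsq' : IsPullback (fst ≫ f.fiberι η) snd f (Spec.map χ ≫ Y.fromSpecResidueField η) :=
    hsq.paste_horiz (IsPullback.of_hasPullback f (Y.fromSpecResidueField η))
  have hψ' : Spec.map (ψη ≫ χ) ≫ M.u = Spec.map χ ≫ Y.fromSpecResidueField η := by
    rw [Spec.map_comp, Category.assoc, hψη]
  letI := (ψη ≫ χ).hom.toAlgebra
  obtain ⟨i, hi⟩ := exists_not_isReduced_chart M (ψη ≫ χ) hψ'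
    (fun hred => hZ (isReduced_of_isOpenImmersion hsq'.isoPullback.hom))
  have hinj' : Function.Injective (algebraMap M.A (CommRingCat.of K')) :=
    χ.hom.injective.comp hinj
  obtain ⟨a, ha, hL⟩ := exists_geom_not_isReduced_alg (B := M.B i) K' hinj' hi
  obtain ⟨V, hV, hψ⟩ := M.near a ha
  refine ⟨V, hV, fun y hy hgr => ?_⟩
  obtain ⟨ψ, hψa, hψe⟩ := hψ y hy
  letI := ψ.hom.toAlgebra
  obtain ⟨L', fL, aL, aYL, htower, hred⟩ := hL (Y.residueField y) hψa
  let χ' : Y.residueField y ⟶ CommRingCat.of L' := CommRingCat.ofHom (@algebraMap (Y.residueField y) L' _ _ aYL)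
  have hψ'' : Spec.map (ψ ≫ χ') ≫ M.u = Spec.map χ' ≫ Y.fromSpecResidueField y := by
    rw [Spec.map_comp, Category.assoc, hψe]
  have halg : (ψ ≫ χ').hom.toAlgebra = aL := by
    refine Algebra.algebra_ext _ _ fun r => ?_
    exact (IsScalarTower.algebraMap_apply M.A (Y.residueField y) L' r).symm
  have hsq'' := IsPullback.paste_horiz
    (IsPullback.of_hasPullback (f.fiberToSpecResidueField y) (Spec.map χ'))
    (IsPullback.of_hasPullback f (Y.fromSpecResidueField y))
  have hred2 : IsReduced (pullback (f.fiberToSpecResidueField y) (Spec.map χ')) :=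
    hgr.geometrically_isReduced _ _ _ (IsPullback.of_hasPullback _ _)
  have : IsReduced (pullback f (Spec.map χ' ≫ Y.fromSpecResidueField y)) :=
    isReduced_of_isOpenImmersion hsq''.isoPullback.inv
  have hc := (M.chart_spec (ψ ≫ χ') hψ'').1 i
  refine not_isReduced_of_isOpenImmersion (M.chart (ψ ≫ χ') hψ'' i) ?_ this
  rw [halg]
  exact hred

end Groth.Agent.H56.NearGeneric
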