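import Groth.Agent.H47.GenericExact
import Mathlib.RingTheory.Ideal.MinimalPrime.Localization
import Mathlib.LinearAlgebra.TensorProduct.RightExactness
import Mathlib.RingTheory.Nilpotent.Lemmas

/-!
# Spreading out properties of the generic fibre of a finite type algebra over a domain
-/

set_option autoImplicit false
set_option linter.style.haveILetI false
noncomputable section

universe u

open TensorProduct

namespace Groth.Agent.H56.NearGeneric

variable {A : Type u} [CommRing A] [IsDomain A]
variable {B : Type u} [CommRing B] [Algebra A B]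
variable (K : Type u) [Field K] [Algebra A K]

omit [IsDomain A] in
theorem tmul_eq_zero_of_smul {L : Type u} [Field L] [Algebra A L] {M : Type u} [AddCommGroup M]
    [Module A M] {c : A} (hc : algebraMap A L c ≠ 0) {x : M}
    (h : (1 : L) ⊗ₜ[A] (c • x) = 0) : (1 : L) ⊗ₜ[A] x = 0 := by
  rw [TensorProduct.tmul_smul, ← algebraMap_smul L c] at h
  exact (smul_eq_zero.1 h).resolve_left hc

theorem frac_tmul_eq_zero_iff {M : Type u} [AddCommGroup M] [Module A M]
    (hK : Function.Injective (algebraMap A K)) (x : M) :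
    (1 : FractionRing A) ⊗ₜ[A] x = 0 ↔ (1 : K) ⊗ₜ[A] x = 0 := by
  constructor
  · intro h
    obtain ⟨c, hc⟩ := (IsLocalizedModule.eq_zero_iff (nonZeroDivisors A)
      (TensorProduct.mk A (FractionRing A) M 1)).1 h
    refine tmul_eq_zero_of_smul (c := (c : A))
      (fun e => nonZeroDivisors.coe_ne_zero c (hK (e.trans (map_zero _).symm))) ?_
    rw [show ((c : A) • x) = c • x from rfl, hc, TensorProduct.tmul_zero]
  · intro h
    letI : Algebra (FractionRing A) K := (IsFractionRing.lift hK).toAlgebra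
    have : IsScalarTower A (FractionRing A) K :=
      IsScalarTower.of_algebraMap_eq fun r => (IsFractionRing.lift_algebraMap hK r).symm
    apply H47.GenericExact.rTensor_injective_of_free (R := A) (A := FractionRing A) (K := K)
      (algebraMap (FractionRing A) K).injective M
    rw [LinearMap.rTensor_tmul, map_zero]
    simpa using h

theorem exists_frac_eq {M : Type u} [AddCommGroup M] [Module A M] (z : FractionRing A ⊗[A] M) :
    ∃ (x : M) (c : A), c ≠ 0 ∧ c • z = 1 ⊗ₜ x := by
  obtain ⟨⟨x, c⟩, h⟩ := IsLocalizedModule.surj (nonZeroDivisors A)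
    (TensorProduct.mk A (FractionRing A) M 1) z
  exact ⟨x, c, nonZeroDivisors.coe_ne_zero c, h⟩

theorem frac_injective_iff {M N : Type u} [AddCommGroup M] [Module A M] [AddCommGroup N] [Module A N]
    (hK : Function.Injective (algebraMap A K)) (u : M →ₗ[A] N) :
    Function.Injective (u.baseChange (FractionRing A)) ↔
      ∀ x : M, (1 : K) ⊗ₜ[A] u x = 0 → (1 : K) ⊗ₜ[A] x = 0 := by
  constructor
  · intro h x hx
    rw [← frac_tmul_eq_zero_iff K hK] at hx ⊢
    exact h (by rw [LinearMap.baseChange_tmul, hx, map_zero])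
  · intro h
    refine (injective_iff_map_eq_zero _).2 fun z hz => ?_
    obtain ⟨x, c, hc, e⟩ := exists_frac_eq z
    have : (1 : FractionRing A) ⊗ₜ[A] x = 0 := by
      refine (frac_tmul_eq_zero_iff K hK x).2 (h x ((frac_tmul_eq_zero_iff K hK _).1 ?_))
      rw [← LinearMap.baseChange_tmul, ← e, LinearMap.map_smul_of_tower, hz, smul_zero]
    rw [this, ← algebraMap_smul (FractionRing A) c] at e
    exact (smul_eq_zero.1 e).resolve_left
      fun e' => hc (IsFractionRing.injective A (FractionRing A) (e'.trans (map_zero _).symm))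

variable [Algebra.FiniteType A B]

/-- Injectivity on the generic fibre spreads out. -/
theorem injective_baseChange {M N : Type u} [AddCommGroup M] [Module B M] [Module A M]
    [IsScalarTower A B M] [Module.Finite B M] [AddCommGroup N] [Module B N] [Module A N]
    [IsScalarTower A B N] [Module.Finite B N] (hK : Function.Injective (algebraMap A K))
    (u : M →ₗ[B] N)
    (h : ∀ x : M, (1 : K) ⊗ₜ[A] u x = 0 → (1 : K) ⊗ₜ[A] x = 0) :
    ∃ a : A, a ≠ 0 ∧ ∀ (L : Type u) [Field L] [Algebra A L], algebraMap A L a ≠ 0 →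
      Function.Injective ((u.restrictScalars A).baseChange L) := by
  have hfrac := (frac_injective_iff K hK (u.restrictScalars A)).2 h
  obtain ⟨a, ha, hL⟩ := H47.GenericExact.exists_forall_exact (R := A) (B := B)
    (0 : M →ₗ[B] M) u (by
      intro z
      rw [LinearMap.restrictScalars_zero, LinearMap.baseChange_zero]
      refine ⟨fun hz => ⟨0, ?_⟩, ?_⟩
      · rw [LinearMap.zero_apply]
        exact (hfrac (hz.trans (map_zero _).symm)).symm
      · rintro ⟨w, rfl⟩
        simp)
  refine ⟨a, ha, fun L _ _ hLa => (injective_iff_map_eq_zero _).2 fun z hz => ?_⟩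
  obtain ⟨w, rfl⟩ := (hL L hLa z).1 hz
  simp

/-- The torsion of a finite module dies over a nonempty open. -/
theorem exists_killed (M : Type u) [AddCommGroup M] [Module B M] [Module A M]
    [IsScalarTower A B M] [Module.Finite B M] (hK : Function.Injective (algebraMap A K)) :
    ∃ a : A, a ≠ 0 ∧ ∀ (L : Type u) [Field L] [Algebra A L], algebraMap A L a ≠ 0 →
      ∀ x : M, (1 : K) ⊗ₜ[A] x = 0 → (1 : L) ⊗ₜ[A] x = 0 := by
  obtain ⟨a, ha, hfree⟩ := H47.GenericFreeDomain.gf_of_finiteType (R := A) B M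
  refine ⟨a, ha, fun L _ _ hL x hx => ?_⟩
  let Aa := Localization.Away a
  have hu : IsUnit (algebraMap A (FractionRing A) a) := isUnit_iff_ne_zero.2 fun e =>
    ha (IsFractionRing.injective A (FractionRing A) (e.trans (map_zero _).symm))
  letI : Algebra Aa (FractionRing A) := (IsLocalization.Away.lift (S := Aa) a hu).toAlgebra
  have : IsScalarTower A Aa (FractionRing A) :=
    IsScalarTower.of_algebraMap_eq fun r => (IsLocalization.Away.lift_eq _ hu r).symm
  have hinj : Function.Injective (algebraMap Aa (FractionRing A)) :=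
    (IsLocalization.lift_injective_iff _).2 fun x y =>
      ⟨fun h => congrArg _ (IsLocalization.injective Aa
          (powers_le_nonZeroDivisors_of_noZeroDivisors ha) h),
        fun h => congrArg _ (IsFractionRing.injective A (FractionRing A) h)⟩
  have h1 : (1 : Aa) ⊗ₜ[A] x = 0 := by
    apply H47.GenericExact.rTensor_injective_of_free (R := A) (A := Aa) (K := FractionRing A) hinj M
    rw [LinearMap.rTensor_tmul, map_zero]
    simpa using (frac_tmul_eq_zero_iff K hK x).2 hx
  let ψ : Aa →ₐ[A] L := IsLocalization.liftAlgHom (M := Submonoid.powers a) (f := Algebra.ofId A L)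
    fun y => by
      obtain ⟨n, hn⟩ := y.2
      rw [← hn]
      exact isUnit_iff_ne_zero.2 (by simpa using pow_ne_zero n hL)
  have := congrArg (ψ.toLinearMap.rTensor M) h1
  simpa using this

/-- A nonzero generic fibre spreads out. -/
theorem exists_nontrivial (M : Type u) [AddCommGroup M] [Module B M] [Module A M]
    [IsScalarTower A B M] [Module.Finite B M] (hK : Function.Injective (algebraMap A K))
    [Nontrivial (K ⊗[A] M)] :
    ∃ a : A, a ≠ 0 ∧ ∀ (L : Type u) [Field L] [Algebra A L], algebraMap A L a ≠ 0 →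
      Nontrivial (L ⊗[A] M) := by
  obtain ⟨a, ha, hfree⟩ := H47.GenericFreeDomain.gf_of_finiteType (R := A) B M
  refine ⟨a, ha, fun L _ _ hL => ?_⟩
  let Aa := Localization.Away a
  have hne : Nontrivial (Aa ⊗[A] M) := by
    by_contra hn
    rw [not_nontrivial_iff_subsingleton] at hn
    obtain ⟨z, hz⟩ := exists_ne (0 : K ⊗[A] M)
    refine hz ?_
    let ψ : Aa →ₐ[A] K := IsLocalization.liftAlgHom (M := Submonoid.powers a) (f := Algebra.ofId A K)
      fun y => by
        obtain ⟨n, hn⟩ := y.2
        rw [← hn]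
        exact isUnit_iff_ne_zero.2 (by
          simpa using pow_ne_zero n fun e => ha (hK (e.trans (map_zero _).symm)))
    clear hz
    induction z using TensorProduct.induction_on with
    | zero => rfl
    | tmul k m =>
      have h1 : (1 : Aa) ⊗ₜ[A] m = 0 := Subsingleton.elim _ _
      have h2 := congrArg (ψ.toLinearMap.rTensor M) h1
      rw [LinearMap.rTensor_tmul, map_zero] at h2
      have h3 : (1 : K) ⊗ₜ[A] m = 0 := by simpa using h2
      rw [show k ⊗ₜ[A] m = k • ((1 : K) ⊗ₜ[A] m) by rw [smul_tmul', smul_eq_mul, mul_one], h3, smul_zero]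
    | add x y hx hy => rw [hx, hy, add_zero]
  let ψ : Aa →ₐ[A] L := IsLocalization.liftAlgHom (M := Submonoid.powers a) (f := Algebra.ofId A L)
    fun y => by
      obtain ⟨n, hn⟩ := y.2
      rw [← hn]
      exact isUnit_iff_ne_zero.2 (by simpa using pow_ne_zero n hL)
  letI : Algebra Aa L := ψ.toRingHom.toAlgebra
  have : IsScalarTower A Aa L := IsScalarTower.of_algebraMap_eq fun r => (ψ.commutes r).symm
  let b := Module.Free.chooseBasis Aa (Aa ⊗[A] M)
  have : Nonempty (Module.Free.ChooseBasisIndex Aa (Aa ⊗[A] M)) := b.index_nonempty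
  have : Nontrivial (L ⊗[Aa] (Aa ⊗[A] M)) := (b.baseChange L).repr.toEquiv.nontrivial
  exact (AlgebraTensorModule.cancelBaseChange A Aa L L M).symm.toEquiv.nontrivial

/-- A nonzero element of the generic fibre stays nonzero nearby. -/
theorem exists_tmul_ne_zero (hK : Function.Injective (algebraMap A K)) {x : B}
    (hx : (1 : K) ⊗ₜ[A] x ≠ 0) :
    ∃ a : A, a ≠ 0 ∧ ∀ (L : Type u) [Field L] [Algebra A L], algebraMap A L a ≠ 0 →
      (1 : L) ⊗ₜ[A] x ≠ 0 := by
  let M : Ideal B := Ideal.span {x}
  have : Module.Finite B M := Module.Finite.iff_fg.2 (Submodule.fg_span_singleton x)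
  let u : M →ₗ[B] B := M.subtype
  obtain ⟨a₁, ha₁, h₁⟩ := injective_baseChange (B := B) K hK u (fun m hm => by
    by_contra hne
    letI : Algebra (FractionRing A) K := (IsFractionRing.lift hK).toAlgebra
    have hi : Function.Injective ((u.restrictScalars A).baseChange (FractionRing A)) :=
      Module.Flat.lTensor_preserves_injective_linearMap (u.restrictScalars A) Subtype.val_injective
    exact hne ((frac_injective_iff K hK (u.restrictScalars A)).1 hi m hm))
  have : Nontrivial (K ⊗[A] M) := by
    refine ⟨⟨1 ⊗ₜ ⟨x, Ideal.mem_span_singleton_self x⟩, 0, fun e => hx ?_⟩⟩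
    simpa [u] using congrArg ((u.restrictScalars A).baseChange K) e
  obtain ⟨a₂, ha₂, h₂⟩ := exists_nontrivial (B := B) K M hK
  refine ⟨a₁ * a₂, mul_ne_zero ha₁ ha₂, fun L _ _ hL e => ?_⟩
  rw [map_mul, mul_ne_zero_iff] at hL
  have := h₂ L hL.2
  obtain ⟨z, hz⟩ := exists_ne (0 : L ⊗[A] M)
  refine hz (h₁ L hL.1 ?_)
  rw [map_zero]
  clear hz
  induction z using TensorProduct.induction_on with
  | zero => exact map_zero _
  | tmul l m =>
    obtain ⟨b, hb⟩ := Ideal.mem_span_singleton'.1 m.2
    show l ⊗ₜ[A] (m : B) = 0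
    rw [← hb]
    have h3 : (l ⊗ₜ[A] (b * x) : L ⊗[A] B) = (l ⊗ₜ b) * (1 ⊗ₜ x) := by
      rw [Algebra.TensorProduct.tmul_mul_tmul, mul_one]
    rw [h3, e, mul_zero]
  | add p q hp hq => rw [map_add, hp, hq, add_zero]

/-- Elements separating points of the generic fibre spread out. -/
theorem exists_annihilator_eq_zero (hK : Function.Injective (algebraMap A K)) {n : ℕ}
    (g : Fin n → B)
    (h : ∀ z : K ⊗[A] B, (∀ j, ((1 : K) ⊗ₜ g j) * z = 0) → z = 0) :
    ∃ a : A, a ≠ 0 ∧ ∀ (L : Type u) [Field L] [Algebra A L], algebraMap A L a ≠ 0 →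
      ∀ z : L ⊗[A] B, (∀ j, ((1 : L) ⊗ₜ g j) * z = 0) → z = 0 := by
  let u : B →ₗ[B] (Fin n → B) := LinearMap.pi fun j => LinearMap.mul B B (g j)
  obtain ⟨a, ha, hL⟩ := injective_baseChange (B := B) K hK u fun x hx => h _ fun j => by
    have := congrArg ((LinearMap.proj (R := A) (φ := fun _ : Fin n => B) j).baseChange K) hx
    rw [LinearMap.baseChange_tmul, map_zero] at this
    rw [Algebra.TensorProduct.tmul_mul_tmul, one_mul]
    exact this
  refine ⟨a, ha, fun L _ _ hLa z hz => hL L hLa ?_⟩
  rw [map_zero]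
  apply (TensorProduct.piRight A L L fun _ : Fin n => B).injective
  rw [map_zero]
  ext j
  rw [Pi.zero_apply, ← hz j]
  clear hz
  induction z using TensorProduct.induction_on with
  | zero => simp
  | tmul l b => simp [u, Algebra.TensorProduct.tmul_mul_tmul]
  | add p q hp hq => simp only [map_add, Pi.add_apply, hp, hq, mul_add]

omit [IsDomain A] [Algebra.FiniteType A B] in
theorem map_tmul_quot {L : Type u} [Field L] [Algebra A L] (N : Ideal B) (z : L ⊗[A] B) (g : B) :
    Algebra.TensorProduct.map (AlgHom.id A L) (Ideal.Quotient.mkₐ A N) ((1 ⊗ₜ g) * z) =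
      ((LinearMap.mul B (B ⧸ N) (Ideal.Quotient.mk N g)).restrictScalars A).baseChange L
        (Algebra.TensorProduct.map (AlgHom.id A L) (Ideal.Quotient.mkₐ A N) z) := by
  induction z using TensorProduct.induction_on with
  | zero => simp
  | tmul l b => simp [Algebra.TensorProduct.tmul_mul_tmul]
  | add p q hp hq => simp only [mul_add, map_add, hp, hq]

/-- An element avoiding the minimal primes of the generic fibre avoids those nearby. -/
theorem exists_nilpotent_of_mul (hK : Function.Injective (algebraMap A K)) (g : B)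
    (h : ∀ z : K ⊗[A] B, IsNilpotent (((1 : K) ⊗ₜ g) * z) → IsNilpotent z) :
    ∃ a : A, a ≠ 0 ∧ ∀ (L : Type u) [Field L] [Algebra A L], algebraMap A L a ≠ 0 →
      ∀ z : L ⊗[A] B, IsNilpotent (((1 : L) ⊗ₜ g) * z) → IsNilpotent z := by
  let ι : B →ₐ[A] K ⊗[A] B := Algebra.TensorProduct.includeRight
  let N : Ideal B := (nilradical (K ⊗[A] B)).comap ι
  let π := Ideal.Quotient.mkₐ A N
  let u : (B ⧸ N) →ₗ[B] (B ⧸ N) := LinearMap.mul B (B ⧸ N) (Ideal.Quotient.mk N g)
  have hK' : ∀ b : B, (1 : K) ⊗ₜ[A] π b = 0 → b ∈ N := by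
    intro b hb
    rw [← frac_tmul_eq_zero_iff K hK] at hb
    obtain ⟨c, hc⟩ := (IsLocalizedModule.eq_zero_iff (nonZeroDivisors A)
      (TensorProduct.mk A (FractionRing A) (B ⧸ N) 1)).1 hb
    have hcb : (c : A) • b ∈ N := by
      rw [← Ideal.Quotient.eq_zero_iff_mem]
      exact (map_smul π (c : A) b).trans hc
    rw [Ideal.mem_comap, mem_nilradical, map_smul, Algebra.smul_def] at hcb
    rw [Ideal.mem_comap, mem_nilradical]
    have hu : IsUnit (algebraMap A (K ⊗[A] B) c) := by
      rw [IsScalarTower.algebraMap_apply A K (K ⊗[A] B)]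
      exact (isUnit_iff_ne_zero.2 fun e =>
        nonZeroDivisors.coe_ne_zero c (hK (e.trans (map_zero _).symm))).map _
    exact (hu.isNilpotent_mul_unit_of_commute_iff (Commute.all _ _)).1 (by rwa [mul_comm])
  obtain ⟨a₁, ha₁, h₁⟩ := injective_baseChange (B := B) K hK u fun x hx => by
    obtain ⟨b, rfl⟩ := Ideal.Quotient.mk_surjective x
    have hgb : g * b ∈ N := hK' _ (by rw [map_mul]; exact hx)
    rw [Ideal.mem_comap, mem_nilradical, map_mul] at hgb
    have hbN : b ∈ N := by
      rw [Ideal.mem_comap, mem_nilradical]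
      exact h _ hgb
    rw [Ideal.Quotient.eq_zero_iff_mem.2 hbN, TensorProduct.tmul_zero]
  obtain ⟨a₂, ha₂, h₂⟩ := exists_killed (B := B) K B hK
  refine ⟨a₁ * a₂, mul_ne_zero ha₁ ha₂, fun L _ _ hL z hz => ?_⟩
  rw [map_mul, mul_ne_zero_iff] at hL
  let Φ := Algebra.TensorProduct.map (AlgHom.id A L) π
  have hker : RingHom.ker Φ ≤ nilradical (L ⊗[A] B) := by
    rw [Algebra.TensorProduct.lTensor_ker π (Ideal.Quotient.mkₐ_surjective A N),
      Ideal.map_le_iff_le_comap]
    intro b hb
    have hbN : b ∈ N := Ideal.Quotient.eq_zero_iff_mem.1 hb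
    rw [Ideal.mem_comap, mem_nilradical] at hbN
    obtain ⟨m, hm⟩ := hbN
    refine mem_nilradical.2 ⟨m, ?_⟩
    rw [← map_pow] at hm ⊢
    exact h₂ L hL.2 _ hm
  obtain ⟨m, hm⟩ := hz
  have hΦ : Φ (z ^ m) = 0 := by
    have h0 : ∀ (k : ℕ) (w : L ⊗[A] B), Φ (((1 : L) ⊗ₜ g) ^ k * w) = 0 → Φ w = 0 := by
      intro k
      induction k with
      | zero => intro w hw; simpa using hw
      | succ k ih =>
        intro w hw
        rw [pow_succ', mul_assoc, map_tmul_quot] at hw
        exact ih w (h₁ L hL.1 (hw.trans (map_zero _).symm))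
    exact h0 m _ (by rw [← mul_pow, hm, map_zero])
  exact IsNilpotent.of_pow (mem_nilradical.1 (hker hΦ))

end Groth.Agent.H56.NearGeneric
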